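import Cfsg.Agent.Lib.DicksonFull.Action
import Cfsg.Agent.Lib.Spectrum.A5Presentation
import Cfsg.Agent.Lib.Spectrum.CoxeterAlt

/-!
Embeddings of `A_4`, `S_4` and `A_5` into `PSL(2, F)` from triples of traces.
-/

set_option autoImplicit false

namespace Cfsg.Agent.Lib.DicksonFull

open Matrix Cfsg.Agent.Lib.Linear

variable {F : Type*} [Field F]

local notation "SL2" => Matrix.SpecialLinearGroup (Fin 2) F
local notation "M2" => Matrix (Fin 2) (Fin 2) F
local notation "PSL2" => Matrix.ProjectiveSpecialLinearGroup (Fin 2) F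

theorem mk_eq_one_of_smul {x : SL2} {a : F} (h : (x : M2) = a • 1) : (x : PSL2) = 1 :=
  (QuotientGroup.eq_one_iff x).mpr ((mem_center_iff_smul x).mpr ⟨a, h⟩)

theorem pow_three_val (x : SL2) :
    (x : M2) ^ 3 = (Matrix.trace (x : M2) ^ 2 - 1) • (x : M2) - Matrix.trace (x : M2) • 1 := by
  rw [pow_succ, pow_two, sl2_mul_self, Matrix.sub_mul, smul_mul_assoc, one_mul, sl2_mul_self,
    pow_two]
  module

theorem mk_pow_two {x : SL2} (h : Matrix.trace (x : M2) = 0) : (x : PSL2) ^ 2 = 1 := by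
  rw [← QuotientGroup.mk_pow]
  refine mk_eq_one_of_smul (a := -1) ?_
  rw [Matrix.SpecialLinearGroup.coe_pow, pow_two, sl2_mul_self, h]
  module

theorem mk_pow_three {x : SL2} (h : Matrix.trace (x : M2) ^ 2 = 1) : (x : PSL2) ^ 3 = 1 := by
  rw [← QuotientGroup.mk_pow]
  refine mk_eq_one_of_smul (a := -Matrix.trace (x : M2)) ?_
  rw [Matrix.SpecialLinearGroup.coe_pow, pow_three_val, h]
  module

theorem mk_pow_five {x : SL2} (h : Matrix.trace (x : M2) ^ 2 = Matrix.trace (x : M2) + 1) :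
    (x : PSL2) ^ 5 = 1 := by
  rw [← QuotientGroup.mk_pow]
  set t := Matrix.trace (x : M2) with ht
  refine mk_eq_one_of_smul (a := -1) ?_
  have h2 : (x : M2) * x = t • (x : M2) - 1 := sl2_mul_self x
  have h3 : (x : M2) ^ 3 = t • (x : M2) - t • 1 := by
    rw [pow_three_val, ← ht, h, add_sub_cancel_right]
  calc ((x ^ 5 : SL2) : M2) = (x : M2) ^ 3 * ((x : M2) * x) := by
        rw [Matrix.SpecialLinearGroup.coe_pow, pow_succ, pow_succ, mul_assoc]
    _ = (-1 : F) • 1 := by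
        rw [h3, h2]
        simp only [Matrix.sub_mul, Matrix.mul_sub, smul_mul_assoc, mul_smul_comm, one_mul, mul_one,
          h2, smul_smul]
        match_scalars
        · linear_combination t * h
        · linear_combination (-1) * h

theorem ne_one_of_trace {x : SL2} (h : Matrix.trace (x : M2) ^ 2 ≠ 4) : (x : PSL2) ≠ 1 := by
  intro h1
  obtain ⟨a, ha⟩ := (mem_center_iff_smul x).mp ((QuotientGroup.eq_one_iff x).mp h1)
  apply h
  have hd := sl2_det x
  rw [ha] at hd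
  simp at hd
  rw [ha]
  simp
  linear_combination 4 * hd

theorem exists_sum_sq [Fintype F] (h2 : (2 : F) ≠ 0) (k : F) : ∃ u v : F, u ^ 2 + v ^ 2 = k := by
  have hodd : Fintype.card F % 2 = 1 := Nat.mod_two_ne_zero.mp fun h => h2 (by
    have h' : ringChar F = 2 := FiniteField.even_card_iff_char_two.mpr h
    have h0 : ((ringChar F : ℕ) : F) = 0 := ringChar.Nat.cast_ringChar
    rw [h'] at h0
    exact_mod_cast h0)
  obtain ⟨u, v, huv⟩ := FiniteField.exists_root_sum_quadratic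
    (f := Polynomial.X ^ 2) (g := Polynomial.X ^ 2 - Polynomial.C k) (Polynomial.degree_X_pow 2)
    (Polynomial.degree_X_pow_sub_C (by norm_num) k) hodd
  refine ⟨u, v, ?_⟩
  simp at huv
  linear_combination huv

theorem trace_mul (x y : SL2) : Matrix.trace ((x * y : SL2) : M2) =
    (x : M2) 0 0 * (y : M2) 0 0 + (x : M2) 0 1 * (y : M2) 1 0 +
      ((x : M2) 1 0 * (y : M2) 0 1 + (x : M2) 1 1 * (y : M2) 1 1) := by
  rw [Matrix.SpecialLinearGroup.coe_mul, Matrix.trace_fin_two, Matrix.mul_apply, Matrix.mul_apply,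
    Fin.sum_univ_two, Fin.sum_univ_two]

/-- A matrix of determinant one. -/
def mk2 (a b c d : F) (h : a * d - b * c = 1) : Matrix.SpecialLinearGroup (Fin 2) F :=
  ⟨!![a, b; c, d], by rw [Matrix.det_fin_two_of]; exact h⟩

theorem trace_mk2 (a b c d : F) (h : a * d - b * c = 1) :
    Matrix.trace ((mk2 a b c d h : SL2) : M2) = a + d := by
  show Matrix.trace (!![a, b; c, d] : M2) = _
  simp [Matrix.trace_fin_two]

theorem trace_mk2_mul (a b c d a' b' c' d' : F) (h : a * d - b * c = 1) (h' : a' * d' - b' * c' = 1) :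
    Matrix.trace ((mk2 a b c d h * mk2 a' b' c' d' h' : SL2) : M2) =
      a * a' + b * c' + (c * b' + d * d') := by
  rw [trace_mul]
  rfl

/-- A pair with traces `0`, `1` and product trace `τ`. -/
theorem exists_pair [Fintype F] (h2 : (2 : F) ≠ 0) (τ : F) :
    ∃ W X : SL2, Matrix.trace (W : M2) = 0 ∧ Matrix.trace (X : M2) = 1 ∧
      Matrix.trace ((W * X : SL2) : M2) = τ := by
  obtain ⟨u, v, huv⟩ := exists_sum_sq h2 ((τ ^ 2 - 3) / 4)
  have h4 : (4 : F) ≠ 0 := by rw [show (4 : F) = 2 * 2 by norm_num]; exact mul_ne_zero h2 h2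
  refine ⟨mk2 0 1 (-1) 0 (by ring),
    mk2 (u + 1 / 2) (v - τ / 2) (v + τ / 2) (1 / 2 - u) ?_, ?_, ?_, ?_⟩
  · field_simp
    field_simp at huv
    linear_combination (-1) * huv
  · rw [trace_mk2]; ring
  · rw [trace_mk2]; field_simp; ring
  · rw [trace_mk2_mul]; field_simp; ring

theorem exists_triple [Fintype F] (h2 : (2 : F) ≠ 0) {r : F} (hr : r ^ 2 = 2) :
    ∃ A B C : SL2, Matrix.trace (A : M2) = 0 ∧ Matrix.trace (B : M2) = 0 ∧
      Matrix.trace (C : M2) = 0 ∧ Matrix.trace ((A * B : SL2) : M2) = 1 ∧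
      Matrix.trace ((B * C : SL2) : M2) = 1 ∧ Matrix.trace ((A * C : SL2) : M2) = 0 := by
  obtain ⟨α, β, hαβ⟩ := exists_sum_sq h2 (-1)
  have hr0 : r ≠ 0 := by rintro rfl; apply h2; rw [← hr]; ring
  refine ⟨mk2 0 1 (-1) 0 (by ring),
    mk2 (α * (-1 / 2) + β * (1 / r)) (β * (-1 / 2) - α * (1 / r) - 1 / 2)
      (β * (-1 / 2) - α * (1 / r) + 1 / 2) (-(α * (-1 / 2) + β * (1 / r))) ?_,
    mk2 α β β (-α) (by linear_combination (-1) * hαβ), ?_, ?_, ?_, ?_, ?_, ?_⟩
  · field_simp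
    linear_combination -(r ^ 2 + 4) * hαβ + 2 * hr - 4 * hr
  · rw [trace_mk2]; ring
  · rw [trace_mk2]; ring
  · rw [trace_mk2]; ring
  · rw [trace_mk2_mul]; field_simp; ring
  · rw [trace_mk2_mul]
    field_simp
    linear_combination (-2) * r * hαβ
  · rw [trace_mk2_mul]; ring

theorem trace_comm (x y : SL2) :
    Matrix.trace ((x * y : SL2) : M2) = Matrix.trace ((y * x : SL2) : M2) := by
  rw [Matrix.SpecialLinearGroup.coe_mul, Matrix.trace_mul_comm, Matrix.SpecialLinearGroup.coe_mul]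

theorem key_s4 : ∀ σ : Equiv.Perm (Fin 4), σ ≠ 1 → ∃ τ υ : Equiv.Perm (Fin 4),
    υ * (σ * τ * σ⁻¹ * τ⁻¹) * υ⁻¹ = Equiv.swap 0 1 * Equiv.swap 2 3 := by
  decide +kernel

theorem key_a4 : ∀ σ : alternatingGroup (Fin 4), σ ≠ 1 → ∃ τ υ : alternatingGroup (Fin 4),
    ((υ * (σ * τ * σ⁻¹ * τ⁻¹) * υ⁻¹ : alternatingGroup (Fin 4)) : Equiv.Perm (Fin 4)) =
      Equiv.swap 0 1 * Equiv.swap 2 3 := by
  decide +kernel

theorem injective_of_key {G H : Type*} [Group G] [Group H] (φ : G →* H) {e : G} (he : φ e ≠ 1)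
    (key : ∀ σ : G, σ ≠ 1 → ∃ τ υ : G, υ * (σ * τ * σ⁻¹ * τ⁻¹) * υ⁻¹ = e) :
    Function.Injective φ := by
  rw [injective_iff_map_eq_one]
  intro σ hσ
  by_contra h
  obtain ⟨τ, υ, hτ⟩ := key σ h
  apply he
  rw [← hτ]
  simp [hσ]

/-- `S_4` inside `PSL(2, F)` when `2` is a square. -/
theorem exists_perm_four [Fintype F] (h2 : (2 : F) ≠ 0) {r : F} (hr : r ^ 2 = 2) :
    ∃ φ : Equiv.Perm (Fin 4) →* PSL2, Function.Injective φ := by
  obtain ⟨A, B, C, hA, hB, hC, hAB, hBC, hAC⟩ := exists_triple h2 hr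
  let s : ℕ → PSL2 := fun i => if i = 0 then (A : PSL2) else if i = 1 then (B : PSL2) else C
  have hA2 : (A : PSL2) * A = 1 := by rw [← pow_two]; exact mk_pow_two hA
  have hB2 : (B : PSL2) * B = 1 := by rw [← pow_two]; exact mk_pow_two hB
  have hC2 : (C : PSL2) * C = 1 := by rw [← pow_two]; exact mk_pow_two hC
  have hs : Spectrum.CoxeterSym.SymRel 3 s := by
    refine ⟨fun i hi => ?_, fun i hi => ?_, fun i j hij hj => ?_⟩
    · interval_cases i <;> simp [s, hA2, hB2, hC2]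
    · obtain rfl | rfl : i = 0 ∨ i = 1 := by omega
      · simp only [s, show (0 : ℕ) + 1 = 1 from rfl, if_pos, if_neg one_ne_zero, reduceIte]
        refine Spectrum.CoxeterSym.braid_of_pow_three hA2 hB2 ?_
        rw [← QuotientGroup.mk_mul]
        exact mk_pow_three (by rw [hAB, one_pow])
      · simp only [s, show (1 : ℕ) + 1 = 2 from rfl, if_neg one_ne_zero, reduceIte,
          show (2 : ℕ) ≠ 0 by omega, show (2 : ℕ) ≠ 1 by omega]
        refine Spectrum.CoxeterSym.braid_of_pow_three hB2 hC2 ?_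
        rw [← QuotientGroup.mk_mul]
        exact mk_pow_three (by rw [hBC, one_pow])
    · obtain ⟨rfl, rfl⟩ : i = 0 ∧ j = 2 := by omega
      simp only [s, reduceIte, show (2 : ℕ) ≠ 0 by omega, show (2 : ℕ) ≠ 1 by omega]
      refine Spectrum.CoxeterSym.comm_of_pow_two hA2 hC2 ?_
      rw [← QuotientGroup.mk_mul]
      exact mk_pow_two hAC
  obtain ⟨φ, hφ, -⟩ := Spectrum.CoxeterSym.exists_lift hs
  refine ⟨φ, injective_of_key φ ?_ key_s4⟩
  rw [map_mul]
  have e0 : φ (Equiv.swap 0 1) = A := hφ 0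
  have e2 : φ (Equiv.swap 2 3) = C := hφ 2
  rw [e0, e2, ← QuotientGroup.mk_mul]
  refine ne_one_of_trace ?_
  rw [hAC]
  intro h
  exact h2 (mul_self_eq_zero.mp (by linear_combination (-1) * h))

/-- `A_4` inside `PSL(2, F)`, `q` odd. -/
theorem exists_alt_four [Fintype F] (h2 : (2 : F) ≠ 0) :
    ∃ φ : alternatingGroup (Fin 4) →* PSL2, Function.Injective φ := by
  obtain ⟨W, X, hW, hX, hWX⟩ := exists_pair h2 1
  have hrel : ∀ w ∈ Spectrum.CoxeterAlt.rels 2, FreeGroup.lift ![(X : PSL2), (W : PSL2)] w = 1 := by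
    rintro w (((⟨i, hi, rfl⟩ | ⟨i, hi, rfl⟩) | ⟨i, j, hij, rfl⟩) | ⟨i, j, hij, rfl⟩)
    · obtain rfl : i = 0 := Fin.ext hi
      simpa using mk_pow_three (by rw [hX, one_pow])
    · obtain rfl : i = 1 := Fin.ext (by simp; omega)
      simpa using mk_pow_two hW
    · obtain ⟨rfl, rfl⟩ : i = 0 ∧ j = 1 := ⟨Fin.ext (by simp; omega), Fin.ext (by simp; omega)⟩
      simp only [map_pow, map_mul, FreeGroup.lift_apply_of]
      show ((X : PSL2) * (W : PSL2)) ^ 3 = 1
      rw [← QuotientGroup.mk_mul]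
      exact mk_pow_three (by rw [trace_comm, hWX, one_pow])
    · omega
  let e := Spectrum.CoxeterAlt.presentedAltEquiv 2
  refine ⟨(PresentedGroup.toGroup hrel).comp e.symm.toMonoidHom,
    injective_of_key _ (e := e (PresentedGroup.of 1)) ?_ fun σ hσ => ?_⟩
  · simp only [MonoidHom.comp_apply, MulEquiv.coe_toMonoidHom, MulEquiv.symm_apply_apply,
      PresentedGroup.toGroup.of]
    refine ne_one_of_trace (x := W) ?_
    rw [hW]
    intro h
    exact h2 (mul_self_eq_zero.mp (by linear_combination (-1) * h))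
  · obtain ⟨τ, υ, h⟩ := key_a4 σ hσ
    refine ⟨τ, υ, Subtype.ext ?_⟩
    rw [h]
    simp [e, Spectrum.CoxeterAlt.presentedAltEquiv, Spectrum.CoxeterAlt.toPermAlt,
      Spectrum.CoxeterAlt.altGen]
    rfl

/-- `A_5` inside `PSL(2, F)` when `5` is a square. -/
theorem exists_alt_five [Fintype F] (h2 : (2 : F) ≠ 0)
    {r : F} (hr : r ^ 2 = 5) :
    ∃ φ : alternatingGroup (Fin 5) →* PSL2, Function.Injective φ := by
  set τ := (1 + r) / 2 with hτ
  have hτ2 : τ ^ 2 = τ + 1 := by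
    rw [hτ]; field_simp; linear_combination hr
  obtain ⟨W, X, hW, hX, hWX⟩ := exists_pair h2 (-τ)
  set Y : SL2 := X⁻¹ * W with hY
  have hYt : Matrix.trace (Y : M2) = τ := by
    have hd : Matrix.trace (X : M2) * Matrix.trace (W : M2) =
        Matrix.trace ((X⁻¹ * W : SL2) : M2) + Matrix.trace ((W * X : SL2) : M2) := by
      simp [Matrix.trace_fin_two, Matrix.mul_apply, Fin.sum_univ_two, Matrix.adjugate_fin_two,
        Matrix.SpecialLinearGroup.coe_inv, Matrix.vecMul, dotProduct]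
      ring
    rw [hY]
    rw [hW, hWX] at hd
    linear_combination (-1) * hd
  have hXY : X * Y = W := by rw [hY, mul_inv_cancel_left]
  have hrel : ∀ w ∈ Spectrum.TinyEnum.triRels, FreeGroup.lift ![(X : PSL2), (Y : PSL2)] w = 1 := by
    rintro w (rfl | rfl | rfl)
    · simpa using mk_pow_three (by rw [hX, one_pow])
    · simpa using mk_pow_five (by rw [hYt, hτ2])
    · simp only [map_pow, map_mul, FreeGroup.lift_apply_of]
      show ((X : PSL2) * (Y : PSL2)) ^ 2 = 1
      rw [← QuotientGroup.mk_mul, hXY]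
      exact mk_pow_two hW
  obtain ⟨e⟩ := Spectrum.TinyEnum.presentation_a5
  let φ := (PresentedGroup.toGroup hrel).comp e.symm.toMonoidHom
  haveI := alternatingGroup.isSimpleGroup_five
  rcases φ.normal_ker.eq_bot_or_eq_top with hk | hk
  · exact ⟨φ, (MonoidHom.ker_eq_bot_iff φ).mp hk⟩
  · exfalso
    refine ne_one_of_trace (x := W) ?_ ?_
    · rw [hW]
      intro h
      exact h2 (mul_self_eq_zero.mp (by linear_combination (-1) * h))
    · have h0 : ∀ i, φ (e (PresentedGroup.of i)) = 1 := fun i =>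
        MonoidHom.mem_ker.mp (hk ▸ Subgroup.mem_top _)
      have a := h0 0
      have b := h0 1
      simp only [φ, MonoidHom.comp_apply, MulEquiv.coe_toMonoidHom, MulEquiv.symm_apply_apply,
        PresentedGroup.toGroup.of] at a b
      rw [← hXY, QuotientGroup.mk_mul]
      rw [show (X : PSL2) = 1 from a, show (Y : PSL2) = 1 from b, one_mul]

end Cfsg.Agent.Lib.DicksonFull
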