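import Cfsg.Agent.Lib.DicksonFull.Action
import Cfsg.Agent.Lib.Linear.Order

/-!
Overgroups in `PSL(2, F)` of subgroups which are far from abelian, with the arithmetic that decides
maximality.
-/

set_option autoImplicit false

namespace Cfsg.Agent.Lib.DicksonFull

open Matrix

variable {F : Type*} [Field F] [Fintype F] {p : ℕ} [hp : Fact p.Prime] [CharP F p]

local notation "PSL2" => Matrix.ProjectiveSpecialLinearGroup (Fin 2) F

/-- The orders left for an overgroup `M` of a subgroup with non-commuting squares and an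
element violating the Borel law. -/
theorem cases_of_witness (M : Subgroup PSL2) {a b : PSL2} (ha : a ∈ M) (hb : b ∈ M)
    (hsq : a ^ 2 * b ^ 2 ≠ b ^ 2 * a ^ 2)
    (hborel : ∃ c d : PSL2, c ∈ M ∧ d ∈ M ∧
      ((c * d * c⁻¹ * d⁻¹) ^ p ≠ 1 ∨ (c ^ p = 1 ∧ d ^ p = 1 ∧ c * d ≠ d * c))) :
    (¬ p ∣ Nat.card M ∧ (Nat.card M = 12 ∨ Nat.card M = 24 ∨ Nat.card M = 60)) ∨
      ∃ k, 0 < k ∧ 3 ≤ p ^ k ∧ p ^ k ∣ Nat.card M ∧ ¬ p ^ (k + 1) ∣ Nat.card M ∧
        (2 * Nat.card M + p ^ k = (p ^ k) ^ 3 ∨ Nat.card M + p ^ k = (p ^ k) ^ 3 ∨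
          (p ^ k = 3 ∧ Nat.card M = 60)) := by
  have hC : ∀ C : Subgroup M, IsCyclic C → C.index ≤ 2 → False := by
    intro C hc hi
    have hmem : ∀ g : M, g ^ 2 ∈ C := by
      intro g
      have : C.index = 1 ∨ C.index = 2 := by
        have := C.index_ne_zero_of_finite
        omega
      rcases this with h | h
      · rw [Subgroup.index_eq_one.mp h]; exact Subgroup.mem_top _
      · exact Subgroup.sq_mem_of_index_two h g
    haveI := hc
    have h0 : (⟨_, hmem ⟨a, ha⟩⟩ : C) * ⟨_, hmem ⟨b, hb⟩⟩ = ⟨_, hmem ⟨b, hb⟩⟩ * ⟨_, hmem ⟨a, ha⟩⟩ :=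
      Std.Commutative.comm (op := (· * ·)) _ _
    have h := congrArg (fun z : C => ((z : M) : PSL2)) h0
    exact hsq (by simpa using h)
  rcases Classical.em (p ∣ Nat.card M) with h | h
  · rcases dvd_cases M h with ⟨h1, h2, -⟩ | ⟨q, k, hk, rfl, hk1, hk2, hc⟩
    · exfalso
      obtain ⟨c, d, hc, hd, h3 | ⟨h3, h4, h5⟩⟩ := hborel
      · exact h3 (by simpa using congrArg Subtype.val (h1 ⟨c, hc⟩ ⟨d, hd⟩))
      · exact h5 (congrArg Subtype.val
          (h2 ⟨c, hc⟩ ⟨d, hd⟩ (Subtype.ext (by simpa using h3)) (Subtype.ext (by simpa using h4))).eq)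
    · rcases hc with ⟨-, C, hC1, hC2⟩ | ⟨h3, hf⟩ | ⟨h3, h60⟩
      · exact (hC C hC1 hC2.le).elim
      · exact Or.inr ⟨k, hk, h3, hk1, hk2, by tauto⟩
      · exact Or.inr ⟨k, hk, h3.symm.le, hk1, hk2, Or.inr (Or.inr ⟨h3, h60⟩)⟩
  · rcases coprime_cases M h with ⟨C, hC1, hC2⟩ | h'
    · exact (hC C hC1 hC2).elim
    · exact Or.inl ⟨h, h'⟩

omit [Fintype F] [CharP F p] hp in
/-- A subgroup is maximal if every overgroup has its order or the full order. -/
theorem isCoatom_of_card [Finite F] (H : Subgroup PSL2)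
    (hne : Nat.card H ≠ Nat.card PSL2)
    (h : ∀ M : Subgroup PSL2, H ≤ M → Nat.card M = Nat.card H ∨ Nat.card PSL2 ≤ Nat.card M) :
    IsCoatom H := by
  haveI : Fintype F := Fintype.ofFinite F
  refine ⟨fun h' => hne (h' ▸ Subgroup.card_top), fun M hM => ?_⟩
  rcases h M hM.le with h1 | h1
  · exact absurd (Subgroup.eq_of_le_of_card_ge hM.le h1.le) hM.ne
  · exact Subgroup.eq_top_of_le_card M h1

omit hp [CharP F p] in
theorem card_psl_odd (h : Odd (Fintype.card F)) :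
    2 * Nat.card PSL2 + Fintype.card F = Fintype.card F ^ 3 := by
  rw [Linear.two_mul_card_PSL_two_of_odd h]
  obtain ⟨m, hm⟩ : ∃ m, Fintype.card F = m + 1 := ⟨_, (Nat.sub_add_cancel Fintype.card_pos).symm⟩
  rw [hm, Nat.add_sub_cancel]; ring

omit hp [CharP F p] in
theorem card_psl_even (h : Even (Fintype.card F)) :
    Nat.card PSL2 + Fintype.card F = Fintype.card F ^ 3 := by
  rw [Linear.card_PSL_two_of_even h]
  obtain ⟨m, hm⟩ : ∃ m, Fintype.card F = m + 1 := ⟨_, (Nat.sub_add_cancel Fintype.card_pos).symm⟩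
  rw [hm, Nat.add_sub_cancel]; ring

omit [CharP F p] in
/-- The Sylow exponent of a subgroup is at most that of the field. -/
theorem exponent_le {f k : ℕ} (hF : Fintype.card F = p ^ f) (M : Subgroup PSL2)
    (h : p ^ k ∣ Nat.card M) : k ≤ f := by
  have h1 : p ^ k ∣ p ^ f * ((p ^ f - 1) * (p ^ f + 1)) := by
    rw [← hF, ← mul_assoc, ← Linear.gcd_mul_card_PSL_two]
    exact dvd_mul_of_dvd_right (h.trans (Subgroup.card_subgroup_dvd_card M)) _
  rcases Nat.eq_zero_or_pos f with rfl | hf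
  · have := Fintype.one_lt_card (α := F); simp [hF] at this
  have hne : ∀ x, x = p ^ f - 1 ∨ x = p ^ f + 1 → ¬ p ∣ x := by
    intro x hx hd
    have hpd : p ∣ p ^ f := dvd_pow_self p hf.ne'
    have hpos := Nat.pow_pos (n := f) hp.out.pos
    rcases hx with rfl | rfl
    · have := Nat.dvd_sub hpd hd
      rw [Nat.sub_sub_self hpos] at this
      exact hp.out.not_dvd_one this
    · exact hp.out.not_dvd_one ((Nat.dvd_add_right hpd).mp hd)
  have hcop : Nat.Coprime (p ^ k) ((p ^ f - 1) * (p ^ f + 1)) := by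
    refine Nat.Coprime.pow_left k ((hp.out.coprime_iff_not_dvd).mpr fun hd => ?_)
    rcases hp.out.dvd_mul.mp hd with h2 | h2
    · exact hne _ (Or.inl rfl) h2
    · exact hne _ (Or.inr rfl) h2
  exact (Nat.pow_dvd_pow_iff_le_right hp.out.one_lt).mp (hcop.dvd_of_dvd_mul_right h1)

omit hp in
/-- `p^(2a) - 1 ∣ 2 (p^(2b) - 1)` forces `a ∣ b`. -/
theorem dvd_of_sq_sub_one_dvd {p a b : ℕ} (hp : 2 ≤ p) (ha : 0 < a)
    (h : p ^ (2 * a) - 1 ∣ 2 * (p ^ (2 * b) - 1)) : a ∣ b := by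
  by_contra hab
  have h' : p ^ (2 * a) - 1 ∣ 2 * (p ^ Nat.gcd (2 * a) (2 * b) - 1) := by
    rw [← Nat.pow_sub_one_gcd_pow_sub_one, ← Nat.gcd_mul_left]
    exact Nat.dvd_gcd (dvd_mul_left _ 2) h
  rw [Nat.gcd_mul_left] at h'
  have hg : Nat.gcd a b < a := lt_of_le_of_ne (Nat.le_of_dvd ha (Nat.gcd_dvd_left a b))
    fun e => hab (e ▸ Nat.gcd_dvd_right a b)
  have h0 : 0 < Nat.gcd a b := Nat.gcd_pos_of_pos_left b ha
  have h1 : 4 * p ^ (2 * Nat.gcd a b) ≤ p ^ (2 * a) := by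
    refine le_trans ?_ (Nat.pow_le_pow_right (by omega) (show 2 * Nat.gcd a b + 2 ≤ 2 * a by omega))
    rw [pow_add, mul_comm]
    exact Nat.mul_le_mul_left _ (by nlinarith)
  have h2 : 2 ≤ p ^ (2 * Nat.gcd a b) := hp.trans (Nat.le_self_pow (by omega) p)
  have := Nat.le_of_dvd (by omega) h'
  omega

/-- A field of order a prime is of that characteristic. -/
theorem charP_of_card {K : Type*} [Field K] [Fintype K] {p e : ℕ} (hp : p.Prime)
    (h : Fintype.card K = p ^ e) : CharP K p := by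
  haveI := ringChar.charP K
  obtain ⟨n, hn, hc⟩ := FiniteField.card K (ringChar K)
  have hd : ringChar K ∣ p ^ e := by
    rw [← h, hc]; exact dvd_pow_self _ n.ne_zero
  rw [← (Nat.prime_dvd_prime_iff_eq hn hp).mp (hn.dvd_of_dvd_pow hd)]
  infer_instance

end Cfsg.Agent.Lib.DicksonFull
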