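import Cfsg.Agent.Lib.DicksonFull.Exist
import Cfsg.Agent.Lib.DicksonFull.Maximal
import Cfsg.Agent.Lib.PLocal.SLTwo

/-!
Subfield subgroups of `PSL(2, F)`: embeddings and the orders of their overgroups.
-/

set_option autoImplicit false

namespace Cfsg.Agent.Lib.DicksonFull

open Matrix Cfsg.Agent.Lib.Linear
open Cfsg.Agent.Lib.PLocal.SLTwo (up lo up_add lo_add)

section Hom

variable {K F : Type*} [Field K] [Field F]

local notation "PSLK" => Matrix.ProjectiveSpecialLinearGroup (Fin 2) K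

theorem pslExt_injective (f : K →+* F) : Function.Injective (pslExt f) := by
  rw [injective_iff_map_eq_one]
  intro g hg
  obtain ⟨x, rfl⟩ := QuotientGroup.mk_surjective g
  rw [pslExt_mk, QuotientGroup.eq_one_iff, mem_center_iff_smul] at hg
  obtain ⟨a, ha⟩ := hg
  refine (QuotientGroup.eq_one_iff x).mpr ((mem_center_iff_smul x).mpr
    ⟨(x : Matrix (Fin 2) (Fin 2) K) 0 0, ?_⟩)
  have h : ∀ i j, f ((x : Matrix (Fin 2) (Fin 2) K) i j) = if i = j then a else 0 := fun i j => by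
    rw [← slExt_apply, ha]
    fin_cases i <;> fin_cases j <;> simp
  ext i j
  apply f.injective
  fin_cases i <;> fin_cases j <;> simp [h]

theorem exists_ringHom {p e r : ℕ} [Fact p.Prime] [Fintype K] [Fintype F]
    (hK : Fintype.card K = p ^ e) (hF : Fintype.card F = p ^ (e * r)) : Nonempty (K →+* F) := by
  haveI := charP_of_card (K := K) Fact.out hK
  haveI := charP_of_card (K := F) Fact.out hF
  letI := ZMod.algebra K p
  letI := ZMod.algebra F p
  haveI : Module.Finite (ZMod p) K := Module.Finite.of_finite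
  haveI : Module.Finite (ZMod p) F := Module.Finite.of_finite
  obtain ⟨φ⟩ := FiniteField.nonempty_algHom_of_finrank_dvd (F := ZMod p) (K := K) (L := F)
    (by
      rw [Module.card_eq_pow_finrank (K := ZMod p), ZMod.card] at hK hF
      rw [Nat.pow_right_injective (Fact.out : p.Prime).two_le hK,
        Nat.pow_right_injective (Fact.out : p.Prime).two_le hF]
      exact dvd_mul_right e r)
  exact ⟨φ.toRingHom⟩

/-- If every element of `K` becomes a square in `F`, `PGL(2, K)` embeds into `PSL(2, F)`. -/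
theorem exists_pgl_hom (f : K →+* F) (hs : ∀ a : K, IsSquare (f a)) :
    ∃ φ : Matrix.ProjGenLinGroup (Fin 2) K →* Matrix.ProjectiveSpecialLinearGroup (Fin 2) F,
      Function.Injective φ ∧ ∀ x : Matrix.SpecialLinearGroup (Fin 2) K,
        φ (Matrix.ProjGenLinGroup.mk x.toGL) = pslExt f x := by
  choose s hs using fun g : GL (Fin 2) K => hs (g : Matrix (Fin 2) (Fin 2) K).det
  have hs0 : ∀ g, s g ≠ 0 := fun g h => by
    have := hs g
    rw [h, mul_zero, map_eq_zero] at this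
    exact GeneralLinearGroup.det_ne_zero g this
  let σ : GL (Fin 2) K → Matrix.SpecialLinearGroup (Fin 2) F := fun g =>
    ⟨(s g)⁻¹ • (g : Matrix (Fin 2) (Fin 2) K).map f, by
      rw [Matrix.det_smul, Fintype.card_fin, ← RingHom.mapMatrix_apply, ← RingHom.map_det, hs g]
      field_simp [hs0 g]⟩
  have key : ∀ (x : Matrix.SpecialLinearGroup (Fin 2) F) (g : GL (Fin 2) K) (c : F),
      (x : Matrix (Fin 2) (Fin 2) F) = c • (g : Matrix (Fin 2) (Fin 2) K).map f →
      (x : Matrix.ProjectiveSpecialLinearGroup (Fin 2) F) = (σ g : Matrix.SpecialLinearGroup (Fin 2) F) := by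
    intro x g c hx
    rw [← mul_inv_eq_one, ← QuotientGroup.mk_inv, ← QuotientGroup.mk_mul]
    refine mk_eq_one_of_smul (a := c * s g) ?_
    have hc : (x : Matrix (Fin 2) (Fin 2) F) = (c * s g) • ((σ g : Matrix.SpecialLinearGroup (Fin 2) F) :
        Matrix (Fin 2) (Fin 2) F) := by
      show (x : Matrix (Fin 2) (Fin 2) F) = (c * s g) • ((s g)⁻¹ • (g : Matrix (Fin 2) (Fin 2) K).map f)
      rw [hx, smul_smul, mul_assoc, mul_inv_cancel₀ (hs0 g), mul_one]
    rw [Matrix.SpecialLinearGroup.coe_mul, hc, Matrix.smul_mul, ← Matrix.SpecialLinearGroup.coe_mul,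
      mul_inv_cancel, Matrix.SpecialLinearGroup.coe_one]
  let ψ : GL (Fin 2) K →* Matrix.ProjectiveSpecialLinearGroup (Fin 2) F :=
    MonoidHom.mk' (fun g => (σ g : Matrix.SpecialLinearGroup (Fin 2) F)) fun g h => by
      rw [← QuotientGroup.mk_mul]
      refine (key (σ g * σ h) (g * h) ((s g)⁻¹ * (s h)⁻¹) ?_).symm
      rw [Matrix.SpecialLinearGroup.coe_mul]
      show ((s g)⁻¹ • (g : Matrix (Fin 2) (Fin 2) K).map f) * ((s h)⁻¹ • (h : Matrix (Fin 2) (Fin 2) K).map f) = _
      rw [Units.val_mul, Matrix.map_mul, Matrix.smul_mul, Matrix.mul_smul, smul_smul]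
  have hker : ∀ g, ψ g = 1 ↔ g ∈ Subgroup.center (GL (Fin 2) K) := by
    intro g
    rw [GeneralLinearGroup.center_eq_range_scalar]
    constructor
    · intro hg
      obtain ⟨a, ha⟩ := (mem_center_iff_smul _).mp ((QuotientGroup.eq_one_iff _).mp hg)
      have h : ∀ i j, f ((g : Matrix (Fin 2) (Fin 2) K) i j) = if i = j then s g * a else 0 := by
        intro i j
        have h' := congrFun (congrFun ha i) j
        replace h' : (s g)⁻¹ * f ((g : Matrix (Fin 2) (Fin 2) K) i j) =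
            (a • (1 : Matrix (Fin 2) (Fin 2) F)) i j := h'
        rw [← mul_inv_cancel_left₀ (hs0 g) (f _), h']
        fin_cases i <;> fin_cases j <;> simp
      have h01 : (g : Matrix (Fin 2) (Fin 2) K) 0 1 = 0 := f.injective (by simp [h])
      have h10 : (g : Matrix (Fin 2) (Fin 2) K) 1 0 = 0 := f.injective (by simp [h])
      have h11 : (g : Matrix (Fin 2) (Fin 2) K) 1 1 = (g : Matrix (Fin 2) (Fin 2) K) 0 0 :=
        f.injective (by simp [h])
      refine ⟨Units.mk0 ((g : Matrix (Fin 2) (Fin 2) K) 0 0) ?_, ?_⟩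
      · intro h0
        have := GeneralLinearGroup.det_ne_zero g
        rw [Matrix.det_fin_two, h0, h01] at this
        simp at this
      · ext i j
        fin_cases i <;> fin_cases j <;> simp [h01, h10, h11]
    · rintro ⟨u, rfl⟩
      refine mk_eq_one_of_smul (a := (s (GeneralLinearGroup.scalar (Fin 2) u))⁻¹ * f u) ?_
      show (_ : F)⁻¹ • Matrix.map _ f = _
      ext i j
      fin_cases i <;> fin_cases j <;> simp
  refine ⟨QuotientGroup.lift (Subgroup.center (GL (Fin 2) K)) ψ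
    (fun g hg => MonoidHom.mem_ker.mpr ((hker g).mpr hg)), ?_, ?_⟩
  · refine (injective_iff_map_eq_one _).mpr fun g hg => ?_
    obtain ⟨g, rfl⟩ := Matrix.ProjGenLinGroup.mk_surjective g
    exact Matrix.ProjGenLinGroup.mk_eq_one.mpr ((hker g).mp hg)
  · intro x
    refine (key (slExt f x) x.toGL 1 ?_).symm
    rw [one_smul]
    rfl

/-- The witness in the unipotent elements. -/
theorem witness_unip (f : K →+* F) {p : ℕ} [CharP K p] (h2 : (2 : K) ≠ 0) :
    ∃ a b : PSLK, a ^ p = 1 ∧ b ^ p = 1 ∧ pslExt f a * pslExt f b ≠ pslExt f b * pslExt f a ∧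
      pslExt f a ^ 2 * pslExt f b ^ 2 ≠ pslExt f b ^ 2 * pslExt f a ^ 2 := by
  have hne : ∀ u : K, u ≠ 0 → ((up u : Matrix.SpecialLinearGroup (Fin 2) K) : PSLK) * (lo u : Matrix.SpecialLinearGroup (Fin 2) K) ≠
      ((lo u : Matrix.SpecialLinearGroup (Fin 2) K) : PSLK) * (up u : Matrix.SpecialLinearGroup (Fin 2) K) := by
    intro u hu h
    rw [← QuotientGroup.mk_mul, ← QuotientGroup.mk_mul, QuotientGroup.eq,
      mem_center_iff_smul] at h
    obtain ⟨a, ha⟩ := h
    have h' : ((lo u * up u : Matrix.SpecialLinearGroup (Fin 2) K) : Matrix (Fin 2) (Fin 2) K) =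
        a • ((up u * lo u : Matrix.SpecialLinearGroup (Fin 2) K) : Matrix (Fin 2) (Fin 2) K) := by
      calc ((lo u * up u : Matrix.SpecialLinearGroup (Fin 2) K) : Matrix (Fin 2) (Fin 2) K)
          = ((up u * lo u * ((up u * lo u)⁻¹ * (lo u * up u)) : Matrix.SpecialLinearGroup (Fin 2) K) :
              Matrix (Fin 2) (Fin 2) K) := by rw [mul_inv_cancel_left]
        _ = _ := by rw [Matrix.SpecialLinearGroup.coe_mul, ha, Matrix.mul_smul, mul_one]
    rw [Matrix.SpecialLinearGroup.coe_mul, Matrix.SpecialLinearGroup.coe_mul] at h'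
    have e01 := congrFun (congrFun h' 0) 1
    have e00 := congrFun (congrFun h' 0) 0
    simp [up, lo, Matrix.mul_apply, Fin.sum_univ_two] at e01 e00
    have ha1 : a = 1 := by
      apply mul_right_cancel₀ hu
      linear_combination (-1) * e01
    rw [ha1, one_mul] at e00
    exact hu (mul_self_eq_zero.mp (by linear_combination (-1) * e00))
  have hnsmul : ∀ (g : K → Matrix.SpecialLinearGroup (Fin 2) K),
      (∀ x y, g (x + y) = g x * g y) → g 0 = 1 → ∀ (n : ℕ) (x : K), g x ^ n = g (n * x) := by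
    intro g hg h0 n x
    induction n with
    | zero => simp [h0]
    | succ n ih => rw [pow_succ, ih, ← hg]; congr 1; push_cast; ring
  refine ⟨((up 1 : Matrix.SpecialLinearGroup (Fin 2) K) : PSLK),
    ((lo 1 : Matrix.SpecialLinearGroup (Fin 2) K) : PSLK), ?_, ?_, fun h => hne 1 one_ne_zero ?_,
    fun h => hne 2 h2 ?_⟩
  · rw [← QuotientGroup.mk_pow, hnsmul up up_add PLocal.SLTwo.up_zero, CharP.cast_eq_zero, zero_mul,
      PLocal.SLTwo.up_zero, QuotientGroup.mk_one]
  · rw [← QuotientGroup.mk_pow, hnsmul lo lo_add PLocal.SLTwo.lo_zero, CharP.cast_eq_zero, zero_mul,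
      PLocal.SLTwo.lo_zero, QuotientGroup.mk_one]
  · apply pslExt_injective f
    simpa using h
  · apply pslExt_injective f
    rw [show (2 : K) = 1 + 1 by norm_num, up_add, lo_add, QuotientGroup.mk_mul, QuotientGroup.mk_mul]
    simpa [pow_two] using h

/-- The witness in characteristic two. -/
theorem witness_two (f : K →+* F) [CharP K 2] {t : K} (ht : t ≠ 0) (ht1 : t ≠ 1) :
    (∃ a b : PSLK, a ^ 2 = 1 ∧ b ^ 2 = 1 ∧ pslExt f a * pslExt f b ≠ pslExt f b * pslExt f a) ∧
      ∃ a b : PSLK, pslExt f a ^ 2 * pslExt f b ^ 2 ≠ pslExt f b ^ 2 * pslExt f a ^ 2 := by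
  have h2 : (2 : K) = 0 := CharTwo.two_eq_zero
  have hinj : ∀ x y : Matrix.SpecialLinearGroup (Fin 2) K, (x : PSLK) = y → x = y := by
    intro x y h
    rw [QuotientGroup.eq, mem_center_iff_smul] at h
    obtain ⟨a, ha⟩ := h
    have hd := sl2_det (x⁻¹ * y)
    rw [ha] at hd
    simp at hd
    have ha1 : a = 1 := by
      have : (a - 1) ^ 2 = 0 := by linear_combination hd - (a - 1) * h2
      exact sub_eq_zero.mp (sq_eq_zero_iff.mp this)
    have h1 : x⁻¹ * y = 1 := Subtype.ext (by rw [ha, ha1, one_smul]; rfl)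
    rw [← mul_one x, ← h1, mul_inv_cancel_left]
  constructor
  · refine ⟨((up 1 : Matrix.SpecialLinearGroup (Fin 2) K) : PSLK),
      ((lo 1 : Matrix.SpecialLinearGroup (Fin 2) K) : PSLK), ?_, ?_, fun h => ?_⟩
    · rw [← QuotientGroup.mk_pow, pow_two, ← up_add, CharTwo.add_self_eq_zero, PLocal.SLTwo.up_zero,
        QuotientGroup.mk_one]
    · rw [← QuotientGroup.mk_pow, pow_two, ← lo_add, CharTwo.add_self_eq_zero, PLocal.SLTwo.lo_zero,
        QuotientGroup.mk_one]
    · rw [← map_mul, ← map_mul, (pslExt_injective f).eq_iff, ← QuotientGroup.mk_mul,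
        ← QuotientGroup.mk_mul] at h
      have e := congrArg (fun z : Matrix.SpecialLinearGroup (Fin 2) K =>
        (z : Matrix (Fin 2) (Fin 2) K) 0 0) (hinj _ _ h)
      simp only [Matrix.SpecialLinearGroup.coe_mul] at e
      simp [up, lo, Matrix.mul_apply, Fin.sum_univ_two] at e
  · have hs : t * t * (t * t) ≠ 1 := fun h => ht1 (by
      have : (t - 1) ^ 4 = 0 := by linear_combination h + (-2 * t ^ 3 + 3 * t ^ 2 - 2 * t + 1) * h2
      exact sub_eq_zero.mp ((pow_eq_zero_iff (by norm_num)).mp this))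
    refine ⟨((mk2 t 0 0 t⁻¹ (by field_simp; ring) : Matrix.SpecialLinearGroup (Fin 2) K) : PSLK),
      ((mk2 t (t⁻¹ - t) 0 t⁻¹ (by field_simp; ring) : Matrix.SpecialLinearGroup (Fin 2) K) : PSLK),
      fun h => hs ?_⟩
    rw [← map_pow, ← map_pow, ← map_mul, ← map_mul, (pslExt_injective f).eq_iff, ← QuotientGroup.mk_pow,
      ← QuotientGroup.mk_pow, ← QuotientGroup.mk_mul, ← QuotientGroup.mk_mul] at h
    have e := congrArg (fun z : Matrix.SpecialLinearGroup (Fin 2) K =>
      (z : Matrix (Fin 2) (Fin 2) K) 0 1) (hinj _ _ h)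
    simp only [pow_two, Matrix.SpecialLinearGroup.coe_mul] at e
    simp [mk2, Matrix.mul_apply, Fin.sum_univ_two] at e
    field_simp at e
    have h5 : (t * t * (t * t) - 1) ^ 2 = 0 := by linear_combination (-1) * e
    exact sub_eq_zero.mp (sq_eq_zero_iff.mp h5)

end Hom

section Orders

variable {F : Type*} [Field F] [Fintype F] {p : ℕ} [hp : Fact p.Prime] [CharP F p]

local notation "PSL2" => Matrix.ProjectiveSpecialLinearGroup (Fin 2) F

theorem cube_sub_lt {a b : ℕ} (ha : 1 ≤ a) (hab : a < b) : a ^ 3 + b < b ^ 3 + a := by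
  obtain ⟨d, rfl⟩ := Nat.exists_eq_add_of_lt hab
  nlinarith [Nat.mul_le_mul_left (d + 1) (show 2 ≤ a + (a + d + 1) by omega),
    Nat.mul_le_mul_left (d + 1) (show 2 ≤ a * a + (a + d + 1) * (a + d + 1) + a * (a + d + 1) by nlinarith)]

theorem coprime_pow_sub_one {p a b : ℕ} (hp : p.Prime) (hb : 0 < b) :
    Nat.Coprime (p ^ b - 1) (p ^ a) := by
  refine (Nat.Coprime.pow_left a ((hp.coprime_iff_not_dvd).mpr fun hd => ?_)).symm
  have := Nat.dvd_sub (dvd_pow_self p hb.ne') hd
  rw [Nat.sub_sub_self (Nat.pow_pos hp.pos)] at this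
  exact hp.not_dvd_one this

/-- Orders of overgroups of a subfield subgroup over a subfield of prime index. -/
theorem subfield_cases {e r : ℕ} (he : 0 < e) (hr : r.Prime) (hF : Fintype.card F = p ^ (e * r))
    (M : Subgroup PSL2) {X : ℕ} (hXp : p ^ e ∣ X) (hX2 : p ^ (2 * e) - 1 ∣ 2 * X)
    (hXM : X ∣ Nat.card M) {a b c d : PSL2} (ha : a ∈ M) (hb : b ∈ M) (hc : c ∈ M) (hd : d ∈ M)
    (hsq : a ^ 2 * b ^ 2 ≠ b ^ 2 * a ^ 2) (hcp : c ^ p = 1) (hdp : d ^ p = 1) (hcd : c * d ≠ d * c) :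
    Nat.card PSL2 ≤ Nat.card M ∨ (2 * Nat.card M + p ^ e = (p ^ e) ^ 3 ∧ p ≠ 2) ∨
      Nat.card M + p ^ e = (p ^ e) ^ 3 ∨ (p ^ e = 3 ∧ Nat.card M = 60) := by
  have hpe : p ∣ p ^ e := dvd_pow_self p he.ne'
  rcases cases_of_witness (p := p) M ha hb hsq ⟨c, d, hc, hd, Or.inr ⟨hcp, hdp, hcd⟩⟩ with
    ⟨hn, -⟩ | ⟨k, hk, h3, hk1, hk2, h⟩
  · exact absurd ((hpe.trans hXp).trans hXM) hn
  have hek : e ≤ k := by
    by_contra hlt
    exact hk2 ((pow_dvd_pow p (show k + 1 ≤ e by omega)).trans (hXp.trans hXM))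
  have hkf : k ≤ e * r := exponent_le hF M hk1
  have hform : ∀ n c, c * Nat.card M + n = n ^ 3 → c * Nat.card M = n * (n ^ 2 - 1) := by
    intro n c h
    rw [Nat.mul_sub, mul_one, ← pow_succ', show 2 + 1 = 3 from rfl]
    omega
  by_cases h60 : p ^ k = 3 ∧ Nat.card M = 60
  · obtain ⟨h31, h32⟩ := h60
    have hp3 : p = 3 := (Nat.prime_dvd_prime_iff_eq hp.out Nat.prime_three).mp (h31 ▸ dvd_pow_self p hk.ne')
    obtain rfl : k = 1 := Nat.pow_right_injective hp.out.two_le (h31.trans (hp3.symm.trans (pow_one p).symm))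
    obtain rfl : e = 1 := by omega
    exact Or.inr (Or.inr (Or.inr ⟨h31, h32⟩))
  obtain ⟨c', hc', hM⟩ : ∃ c', (c' = 2 ∧ p ≠ 2 ∨ c' = 1) ∧ c' * Nat.card M + p ^ k = (p ^ k) ^ 3 := by
    rcases h with h | h | h
    · refine ⟨2, Or.inl ⟨rfl, ?_⟩, h⟩
      rintro rfl
      obtain ⟨m, hm⟩ := hk1
      have h1 := hform _ _ h
      rw [hm, mul_left_comm] at h1
      have h1 := Nat.eq_of_mul_eq_mul_left (Nat.pow_pos (n := k) (show 0 < 2 by norm_num)) h1
      have h4 : (2 ^ k) ^ 2 % 2 = 0 := by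
        rw [Nat.pow_mod, Nat.pow_mod 2 k, Nat.mod_self, Nat.zero_pow hk]
      have h5 : 1 ≤ (2 ^ k) ^ 2 := Nat.one_le_pow _ _ (Nat.pow_pos (by norm_num))
      omega
    · exact ⟨1, Or.inr rfl, by rw [one_mul]; exact h⟩
    · exact absurd h h60
  have h1 := hform _ _ hM
  have hsq2 : (p ^ k) ^ 2 = p ^ (2 * k) := by rw [← pow_mul, mul_comm]
  rw [hsq2] at h1
  have hek' : e ∣ k := by
    refine dvd_of_sq_sub_one_dvd hp.out.two_le he ?_
    refine (coprime_pow_sub_one (a := k) hp.out (by omega)).dvd_of_dvd_mul_left ?_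
    refine (hX2.trans (Nat.mul_dvd_mul_left 2 hXM)).trans ?_
    rw [mul_left_comm, ← h1]
    exact Nat.mul_dvd_mul_left 2 (dvd_mul_left _ _)
  have hkd : k ∣ e * r := by
    refine dvd_of_sq_sub_one_dvd hp.out.two_le hk ?_
    refine (coprime_pow_sub_one (a := e * r) hp.out (by omega)).dvd_of_dvd_mul_left ?_
    have h2 : p ^ (2 * k) - 1 ∣ 2 * Nat.card M :=
      (Dvd.intro_left _ h1.symm : p ^ (2 * k) - 1 ∣ c' * Nat.card M).trans
        (Nat.mul_dvd_mul_right (by rcases hc' with ⟨rfl, -⟩ | rfl <;> norm_num) _)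
    refine h2.trans ((Nat.mul_dvd_mul_left 2 (Subgroup.card_subgroup_dvd_card M)).trans ?_)
    rw [mul_left_comm]
    refine Nat.mul_dvd_mul_left 2 ?_
    have e1 : p ^ (2 * (e * r)) - 1 = (p ^ (e * r) - 1) * (p ^ (e * r) + 1) := by
      have h3 := Nat.sq_sub_sq (p ^ (e * r)) 1
      rw [one_pow] at h3
      rw [show 2 * (e * r) = e * r * 2 by ring, pow_mul, h3, mul_comm]
    rw [e1, ← hF, ← mul_assoc, ← Linear.gcd_mul_card_PSL_two]
    exact dvd_mul_left _ _
  obtain ⟨j, rfl⟩ := hek'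
  rcases (Nat.dvd_prime hr).mp (Nat.dvd_of_mul_dvd_mul_left he hkd) with rfl | rfl
  · rw [mul_one] at hM
    rcases hc' with ⟨rfl, hp2⟩ | rfl
    · exact Or.inr (Or.inl ⟨hM, hp2⟩)
    · exact Or.inr (Or.inr (Or.inl (by rwa [one_mul] at hM)))
  · left
    rw [← hF] at hM
    rcases hc' with ⟨rfl, hp2⟩ | rfl
    · have := card_psl_odd (F := F) (by rw [hF]; exact (hp.out.odd_of_ne_two hp2).pow)
      omega
    · rcases Nat.even_or_odd (Fintype.card F) with hev | hodd
      · have := card_psl_even (F := F) hev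
        omega
      · have := card_psl_odd (F := F) hodd
        omega

end Orders

end Cfsg.Agent.Lib.DicksonFull
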