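import Cfsg.Agent.Lib.DicksonFull.Orbit
import Cfsg.Agent.Lib.Linear.SL2

/-!
`PSL(2, F)` acting on the projective line over the quadratic extension satisfies Dickson's
hypotheses; the consequences for subgroups of `PSL(2, F)`.
-/

set_option autoImplicit false

namespace Cfsg.Agent.Lib.DicksonFull

open Matrix MulAction Cfsg.Agent.Lib.Linear
open scoped LinearAlgebra.Projectivization

section Map

variable {F E : Type*} [Field F] [Field E]

/-- Extension of scalars on `SL(2)`. -/
def slExt (f : F →+* E) :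
    Matrix.SpecialLinearGroup (Fin 2) F →* Matrix.SpecialLinearGroup (Fin 2) E :=
  Matrix.SpecialLinearGroup.map f

theorem slExt_apply (f : F →+* E) (x : Matrix.SpecialLinearGroup (Fin 2) F) (i j : Fin 2) :
    (slExt f x : Matrix (Fin 2) (Fin 2) E) i j = f ((x : Matrix (Fin 2) (Fin 2) F) i j) := rfl

theorem center_le (f : F →+* E) :
    Subgroup.center (Matrix.SpecialLinearGroup (Fin 2) F) ≤
      (Subgroup.center (Matrix.SpecialLinearGroup (Fin 2) E)).comap (slExt f) := by
  intro x hx
  obtain ⟨r, hr, hx'⟩ := Matrix.SpecialLinearGroup.mem_center_iff.mp hx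
  refine Matrix.SpecialLinearGroup.mem_center_iff.mpr ⟨f r, by rw [← map_pow, hr, map_one], ?_⟩
  ext i j
  rw [slExt_apply, ← hx']
  fin_cases i <;> fin_cases j <;> simp

/-- Extension of scalars on `PSL(2)`. -/
def pslExt (f : F →+* E) :
    Matrix.ProjectiveSpecialLinearGroup (Fin 2) F →* Matrix.ProjectiveSpecialLinearGroup (Fin 2) E :=
  QuotientGroup.map _ _ (slExt f) (center_le f)

theorem pslExt_mk (f : F →+* E) (x : Matrix.SpecialLinearGroup (Fin 2) F) :
    pslExt f (x : Matrix.ProjectiveSpecialLinearGroup (Fin 2) F) =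
      ((slExt f x : Matrix.SpecialLinearGroup (Fin 2) E) :
        Matrix.ProjectiveSpecialLinearGroup (Fin 2) E) := rfl

theorem smul_point_eq_iff (g : Matrix.SpecialLinearGroup (Fin 2) E) {v : Fin 2 → E} (hv : v ≠ 0) :
    g • Projectivization.mk E v hv = Projectivization.mk E v hv ↔
      ∃ μ : E, (g : Matrix (Fin 2) (Fin 2) E) *ᵥ v = μ • v := by
  rw [Projectivization.smul_mk, Projectivization.mk_eq_mk_iff']
  constructor
  · rintro ⟨μ, h⟩; exact ⟨μ, h.symm⟩
  · rintro ⟨μ, h⟩; exact ⟨μ, h.symm⟩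

end Map

section Fixed

variable {F E : Type*} [Field F] [Field E] (f : F →+* E)
variable {x : Matrix.SpecialLinearGroup (Fin 2) F}

local notation "SL2" => Matrix.SpecialLinearGroup (Fin 2) F
local notation "M2" => Matrix (Fin 2) (Fin 2) F
local notation "ME" => Matrix (Fin 2) (Fin 2) E

/-- `μ` is an eigenvalue of the extension of `x`. -/
def IsEig (x : Matrix.SpecialLinearGroup (Fin 2) F) (μ : E) : Prop :=
  μ ^ 2 - f (Matrix.trace (x : Matrix (Fin 2) (Fin 2) F)) * μ + 1 = 0

theorem mem_center_iff_smul (x : SL2) :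
    x ∈ Subgroup.center SL2 ↔ ∃ a : F, (x : M2) = a • 1 := by
  constructor
  · intro h
    obtain ⟨r, -, hr⟩ := Matrix.SpecialLinearGroup.mem_center_iff.mp h
    exact ⟨r, by rw [← hr]; ext i j; fin_cases i <;> fin_cases j <;> simp⟩
  · rintro ⟨a, ha⟩
    refine Matrix.SpecialLinearGroup.mem_center_iff.mpr ⟨a, ?_, ?_⟩
    · have := sl2_det x
      rw [ha] at this
      simp at this
      simpa [pow_two] using this
    · rw [ha]; ext i j; fin_cases i <;> fin_cases j <;> simp

theorem eig_of_mulVec {μ : E} {v : Fin 2 → E} (hv : v ≠ 0)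
    (h : (slExt f x : ME) *ᵥ v = μ • v) : IsEig f x μ := by
  have h2 := congrArg (fun M : ME => M *ᵥ v) (sl2_mul_self (slExt f x))
  simp only [← Matrix.mulVec_mulVec, h, Matrix.mulVec_smul, Matrix.sub_mulVec, Matrix.smul_mulVec,
    Matrix.one_mulVec, smul_smul] at h2
  have htr : Matrix.trace (slExt f x : ME) = f (Matrix.trace (x : M2)) := by
    simp [Matrix.trace_fin_two, slExt_apply]
  obtain ⟨i, hi⟩ : ∃ i, v i ≠ 0 := Function.ne_iff.mp hv
  have h3 := congrFun h2 i
  simp only [Pi.smul_apply, Pi.sub_apply, smul_eq_mul, htr] at h3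
  apply mul_right_cancel₀ hi
  rw [zero_mul]
  linear_combination h3

/-- The eigenspace of a non-scalar element is a line. -/
theorem eigen_unique (hx : NonScalar x) {μ : E} {v w : Fin 2 → E} (hv : v ≠ 0)
    (h : (slExt f x : ME) *ᵥ v = μ • v) (h' : (slExt f x : ME) *ᵥ w = μ • w) :
    ∃ c : E, c • v = w := by
  by_contra hc
  have hli : LinearIndependent E ![v, w] := by
    rw [LinearIndependent.pair_iff' hv]
    exact fun c hcw => hc ⟨c, hcw⟩
  have hall : ∀ u : Fin 2 → E, (slExt f x : ME) *ᵥ u = μ • u := by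
    intro u
    have hspan := hli.span_eq_top_of_card_eq_finrank' (by simp)
    have hu : u ∈ Submodule.span E (Set.range ![v, w]) := hspan ▸ Submodule.mem_top
    rw [Matrix.range_cons_cons_empty, Submodule.mem_span_pair] at hu
    obtain ⟨a, b, rfl⟩ := hu
    rw [Matrix.mulVec_add, Matrix.mulVec_smul, Matrix.mulVec_smul, h, h', smul_add, smul_comm a μ v,
      smul_comm b μ w]
  have key : ∀ i j, f ((x : M2) i j) = if i = j then μ else 0 := by
    intro i j
    have := congrFun (hall (Pi.single j 1)) i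
    rw [Matrix.mulVec_single_one] at this
    simpa [Pi.single_apply, slExt_apply] using this
  refine hx ((x : M2) 0 0) ?_
  ext i j
  apply f.injective
  fin_cases i <;> fin_cases j <;> simp [key]

theorem exists_eigvec {μ : E} (h : IsEig f x μ) :
    ∃ v : Fin 2 → E, v ≠ 0 ∧ (slExt f x : ME) *ᵥ v = μ • v := by
  have hdet : ((slExt f x : ME) - μ • 1).det = 0 := by
    have hd := sl2_det (slExt f x)
    unfold IsEig at h
    rw [Matrix.trace_fin_two, map_add, ← slExt_apply f x 0 0, ← slExt_apply f x 1 1] at h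
    rw [Matrix.det_fin_two]
    simp
    linear_combination hd + h
  obtain ⟨v, hv, hv'⟩ := Matrix.exists_mulVec_eq_zero_iff.mpr hdet
  rw [Matrix.sub_mulVec, Matrix.smul_mulVec, Matrix.one_mulVec, sub_eq_zero] at hv'
  exact ⟨v, hv, hv'⟩

theorem IsEig.eq_or_inv {μ ν : E} (h : IsEig f x μ) (h' : IsEig f x ν) : ν = μ ∨ ν = μ⁻¹ := by
  unfold IsEig at h h'
  have h0 : μ ≠ 0 := by rintro rfl; simp at h
  have : (ν - μ) * (μ * ν - 1) = 0 := by linear_combination μ * h' - ν * h
  rcases mul_eq_zero.mp this with h1 | h1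
  · exact Or.inl (sub_eq_zero.mp h1)
  · exact Or.inr (eq_inv_of_mul_eq_one_left (by linear_combination h1))

theorem IsEig.inv {μ : E} (h : IsEig f x μ) : IsEig f x μ⁻¹ := by
  unfold IsEig at h ⊢
  have h0 : μ ≠ 0 := by rintro rfl; simp at h
  field_simp
  linear_combination h

theorem IsEig.inv_eq_self_iff {μ : E} (h : IsEig f x μ) : μ⁻¹ = μ ↔ μ ^ 2 = 1 := by
  have h0 : μ ≠ 0 := by rintro rfl; simp [IsEig] at h
  rw [pow_two]
  refine ⟨fun e => ?_, fun e => inv_eq_of_mul_eq_one_right e⟩
  calc μ * μ = μ * μ⁻¹ := by rw [e]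
    _ = 1 := mul_inv_cancel₀ h0

/-- The fixed points of a non-scalar element correspond to its eigenvalues. -/
theorem card_fixed_eq (hx : NonScalar x) :
    Nat.card (fixedBy (ℙ E (Fin 2 → E)) (slExt f x)) = Nat.card {μ : E // IsEig f x μ} := by
  classical
  have hex : ∀ ω : fixedBy (ℙ E (Fin 2 → E)) (slExt f x),
      ∃ μ : E, (slExt f x : ME) *ᵥ (ω : ℙ E (Fin 2 → E)).rep = μ • (ω : ℙ E (Fin 2 → E)).rep := by
    intro ω
    refine (smul_point_eq_iff _ (ω : ℙ E (Fin 2 → E)).rep_nonzero).mp ?_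
    rw [Projectivization.mk_rep]
    exact ω.2
  refine Nat.card_eq_of_bijective (fun ω => (⟨(hex ω).choose,
    eig_of_mulVec f (ω : ℙ E (Fin 2 → E)).rep_nonzero (hex ω).choose_spec⟩ : {μ : E // IsEig f x μ}))
    ⟨fun a b hab => ?_, fun μ => ?_⟩
  · have h1 := (hex a).choose_spec
    have h2 := (hex b).choose_spec
    have h3 : (hex a).choose = (hex b).choose := congrArg Subtype.val hab
    rw [h3] at h1
    obtain ⟨c, hc⟩ := eigen_unique f hx (b : ℙ E (Fin 2 → E)).rep_nonzero h2 h1
    apply Subtype.ext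
    rw [← Projectivization.mk_rep (a : ℙ E (Fin 2 → E)), ← Projectivization.mk_rep (b : ℙ E (Fin 2 → E)),
      Projectivization.mk_eq_mk_iff']
    exact ⟨c, hc⟩
  · obtain ⟨v, hv, hv'⟩ := exists_eigvec f μ.2
    let ω : fixedBy (ℙ E (Fin 2 → E)) (slExt f x) :=
      ⟨Projectivization.mk E v hv, (smul_point_eq_iff _ hv).mpr ⟨μ, hv'⟩⟩
    refine ⟨ω, Subtype.ext ?_⟩
    obtain ⟨c, hc⟩ := Projectivization.exists_smul_eq_mk_rep E v hv
    have h1 := (hex ω).choose_spec
    show (hex ω).choose = μ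
    have h2 : (slExt f x : ME) *ᵥ (ω : ℙ E (Fin 2 → E)).rep = (μ : E) • (ω : ℙ E (Fin 2 → E)).rep := by
      show (slExt f x : ME) *ᵥ (Projectivization.mk E v hv).rep = _
      rw [show (ω : ℙ E (Fin 2 → E)) = Projectivization.mk E v hv from rfl, ← hc, Units.smul_def,
        Matrix.mulVec_smul, hv', smul_comm]
    exact smul_left_injective E (ω : ℙ E (Fin 2 → E)).rep_nonzero (h1.symm.trans h2)

theorem card_eig {μ : E} (h : IsEig f x μ) :
    (μ ^ 2 = 1 → Nat.card {μ : E // IsEig f x μ} = 1) ∧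
      (μ ^ 2 ≠ 1 → Nat.card {μ : E // IsEig f x μ} = 2) := by
  classical
  have hset : {ν : E | IsEig f x ν} = {μ, μ⁻¹} := by
    ext ν
    simp only [Set.mem_setOf_eq, Set.mem_insert_iff, Set.mem_singleton_iff]
    exact ⟨h.eq_or_inv f, by rintro (rfl | rfl); exacts [h, h.inv f]⟩
  rw [show Nat.card {μ : E // IsEig f x μ} = Set.ncard {ν : E | IsEig f x ν} from rfl, hset]
  refine ⟨fun h1 => ?_, fun h1 => ?_⟩
  · rw [(h.inv_eq_self_iff f).mpr h1, Set.pair_eq_singleton, Set.ncard_singleton]
  · exact Set.ncard_pair fun hh => h1 ((h.inv_eq_self_iff f).mp hh.symm)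

variable (p : ℕ) [Fact p.Prime] [CharP F p]

/-- Unipotent up to sign is the same as order dividing `p` modulo scalars. -/
theorem pow_mem_center_iff (hx : NonScalar x) {μ : E} (h : IsEig f x μ) :
    x ^ p ∈ Subgroup.center SL2 ↔ μ ^ 2 = 1 := by
  constructor
  · intro hc
    obtain ⟨a, ha⟩ := (mem_center_iff_smul _).mp hc
    have ha2 : a ^ 2 = 1 := by
      have := sl2_det (x ^ p)
      rw [ha] at this
      simp at this
      simpa [pow_two] using this
    obtain ⟨v, hv, hv'⟩ := exists_eigvec f h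
    have hk : ∀ k : ℕ, (slExt f (x ^ k) : ME) *ᵥ v = μ ^ k • v := by
      intro k
      induction k with
      | zero => simp
      | succ k ih =>
        rw [pow_succ, map_mul, Matrix.SpecialLinearGroup.coe_mul, ← Matrix.mulVec_mulVec, hv',
          Matrix.mulVec_smul, ih, smul_smul, pow_succ, mul_comm]
    have h1 := hk p
    have h2 : (slExt f (x ^ p) : ME) = f a • 1 := by
      ext i j
      rw [slExt_apply, ha]
      fin_cases i <;> fin_cases j <;> simp
    rw [h2, Matrix.smul_mulVec, Matrix.one_mulVec] at h1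
    have h3 : f a = μ ^ p := smul_left_injective E hv h1
    haveI : CharP E p := (f.charP_iff f.injective p).mp inferInstance
    have h4 : (μ ^ 2 - 1) ^ p = 0 := by
      rw [sub_pow_char, one_pow, ← pow_mul, mul_comm, pow_mul, ← h3, ← map_pow, ha2, map_one,
        sub_self]
    exact sub_eq_zero.mp ((pow_eq_zero_iff (Fact.out : p.Prime).ne_zero).mp h4)
  · intro h1
    set t := Matrix.trace (x : M2)
    have ht : f t = 2 * μ := by
      unfold IsEig at h
      apply mul_right_cancel₀ (show μ ≠ 0 by rintro rfl; simp at h)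
      linear_combination (-1) * h - h1
    obtain ⟨ε, hε, hεt⟩ : ∃ ε : F, ε ^ 2 = 1 ∧ t = 2 * ε := by
      rcases sq_eq_one_iff.mp h1 with h2 | h2
      · exact ⟨1, one_pow 2, f.injective (by rw [ht, h2, map_mul, map_one, map_ofNat])⟩
      · exact ⟨-1, by ring, f.injective (by rw [ht, h2, map_mul, map_neg, map_one, map_ofNat])⟩
    have hsq : ((x : M2) - ε • 1) ^ 2 = 0 := by
      rw [pow_two, Matrix.sub_mul, Matrix.mul_sub, Matrix.mul_sub, sl2_mul_self]
      simp only [smul_mul_assoc, mul_smul_comm, one_mul, mul_one, smul_smul]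
      rw [← pow_two, hε, one_smul, show Matrix.trace (x : M2) = 2 * ε from hεt, two_mul, add_smul]
      abel
    rw [mem_center_iff_smul]
    refine ⟨ε ^ p, ?_⟩
    have h3 : ((x : M2) - ε • 1) ^ p = 0 := by
      rw [show p = 2 + (p - 2) by have := (Fact.out : p.Prime).two_le; omega, pow_add, hsq, zero_mul]
    haveI : CharP M2 p := inferInstance
    rw [sub_pow_char_of_commute (p := p) (h := show Commute (x : M2) (ε • 1) from
      (Commute.one_right _).smul_right ε), sub_eq_zero, smul_pow, one_pow] at h3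
    rw [Matrix.SpecialLinearGroup.coe_pow, h3]

end Fixed

section Main

variable {F : Type*} [Field F] [Fintype F] {p : ℕ} [hp : Fact p.Prime] [CharP F p]

local notation "SL2" => Matrix.SpecialLinearGroup (Fin 2) F
local notation "PSL2" => Matrix.ProjectiveSpecialLinearGroup (Fin 2) F

theorem exists_eig (E : Type*) [Field E] [Fintype E] [Algebra F E] (hE : Module.finrank F E = 2)
    (x : SL2) : ∃ μ : E, IsEig (algebraMap F E) x μ := by
  classical
  set t := Matrix.trace (x : Matrix (Fin 2) (Fin 2) F)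
  set P : Polynomial F := Polynomial.X ^ 2 - Polynomial.C t * Polynomial.X + 1 with hP
  have hPd : P.natDegree = 2 := by rw [hP]; compute_degree!
  suffices h : ∃ μ : E, Polynomial.aeval μ P = 0 by
    obtain ⟨μ, hμ⟩ := h
    refine ⟨μ, ?_⟩
    simpa [hP, IsEig] using hμ
  by_cases hr : ∃ a : F, P.IsRoot a
  · obtain ⟨a, ha⟩ := hr
    exact ⟨algebraMap F E a, by rw [Polynomial.aeval_algebraMap_apply_eq_algebraMap_eval, ha.eq_zero,
      map_zero]⟩
  · push Not at hr
    have hirr : Irreducible P := Polynomial.irreducible_of_degree_le_three_of_not_isRoot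
      (by rw [hPd]; simp) hr
    haveI : Fact (Irreducible P) := ⟨hirr⟩
    let pb := AdjoinRoot.powerBasis hirr.ne_zero
    have hfin : Module.finrank F (AdjoinRoot P) = 2 := by
      rw [pb.finrank, AdjoinRoot.powerBasis_dim, hPd]
    haveI : Module.Finite F (AdjoinRoot P) := pb.finite
    haveI : Finite (AdjoinRoot P) := Module.finite_of_finite F
    obtain ⟨φ⟩ := FiniteField.nonempty_algHom_of_finrank_dvd (F := F) (K := AdjoinRoot P) (L := E)
      (by rw [hfin, hE])
    exact ⟨φ (AdjoinRoot.root P), by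
      rw [Polynomial.aeval_algHom_apply, AdjoinRoot.aeval_eq, AdjoinRoot.mk_self, map_zero]⟩

/-- The action of a subgroup of `PSL(2, F)` on the projective line of the extension. -/
abbrev actionExt (E : Type*) [Field E] (f : F →+* E)
    (G : Subgroup (Matrix.ProjectiveSpecialLinearGroup (Fin 2) F)) :
    MulAction G (ℙ E (Fin 2 → E)) :=
  MulAction.compHom _ ((pslExt f).comp G.subtype)

theorem smul_ext {E : Type*} [Field E] (f : F →+* E) {G : Subgroup PSL2} {g : G} {x : SL2}
    (hx : (x : PSL2) = g) (ω : ℙ E (Fin 2 → E)) :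
    letI := actionExt E f G
    g • ω = slExt f x • ω := by
  show pslExt f (g : PSL2) • ω = _
  rw [← hx]
  rfl

theorem nonScalar_of_ne_one {G : Subgroup PSL2} {g : G} {x : SL2} (hx : (x : PSL2) = g)
    (hg : g ≠ 1) : NonScalar x := fun a ha => hg (Subtype.ext (by
  rw [← hx]
  exact (QuotientGroup.eq_one_iff _).mpr ((mem_center_iff_smul x).mpr ⟨a, ha⟩)))

theorem isDicksonAction (E : Type*) [Field E] [Fintype E] [Algebra F E]
    (hE : Module.finrank F E = 2) (G : Subgroup PSL2) :
    letI := actionExt E (algebraMap F E) G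
    IsDicksonAction p G (ℙ E (Fin 2 → E)) := by
  letI := actionExt E (algebraMap F E) G
  have hfix : ∀ (g : G) (x : SL2), (x : PSL2) = g →
      Nat.card (fixedBy (ℙ E (Fin 2 → E)) g) =
        Nat.card (fixedBy (ℙ E (Fin 2 → E)) (slExt (algebraMap F E) x)) := fun g x hx => by
    refine Nat.card_congr (Equiv.setCongr (Set.ext fun ω => ?_))
    rw [mem_fixedBy, mem_fixedBy, smul_ext _ hx]
  have hpow : ∀ (g : G) (x : SL2), (x : PSL2) = g → (g ^ p = 1 ↔ x ^ p ∈ Subgroup.center SL2) := by
    intro g x hx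
    rw [← QuotientGroup.eq_one_iff, QuotientGroup.mk_pow, hx, ← SubmonoidClass.coe_pow,
      OneMemClass.coe_eq_one]
  constructor
  · intro g hg
    obtain ⟨x, hx⟩ := QuotientGroup.mk_surjective (g : PSL2)
    obtain ⟨μ, hμ⟩ := exists_eig E hE x
    rw [hfix g x hx, card_fixed_eq _ (nonScalar_of_ne_one hx hg)]
    by_cases h : μ ^ 2 = 1
    · exact Or.inl ((card_eig _ hμ).1 h)
    · exact Or.inr ((card_eig _ hμ).2 h)
  · intro g hg
    obtain ⟨x, hx⟩ := QuotientGroup.mk_surjective (g : PSL2)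
    obtain ⟨μ, hμ⟩ := exists_eig E hE x
    rw [hfix g x hx, card_fixed_eq _ (nonScalar_of_ne_one hx hg), hpow g x hx,
      pow_mem_center_iff _ p (nonScalar_of_ne_one hx hg) hμ]
    refine ⟨fun h1 => ?_, (card_eig _ hμ).1⟩
    by_contra h
    rw [(card_eig _ hμ).2 h] at h1
    omega
  · intro g h hgp hhp ω hgω hhω
    by_cases hg1 : g = 1
    · subst hg1; exact Commute.one_left h
    by_cases hh1 : h = 1
    · subst hh1; exact Commute.one_right g
    obtain ⟨x, hx⟩ := QuotientGroup.mk_surjective (g : PSL2)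
    obtain ⟨y, hy⟩ := QuotientGroup.mk_surjective (h : PSL2)
    rw [smul_ext _ hx] at hgω
    rw [smul_ext _ hy] at hhω
    induction ω using Projectivization.ind with | _ v hv =>
    obtain ⟨μ, hμ⟩ := (smul_point_eq_iff _ hv).mp hgω
    obtain ⟨ν, hν⟩ := (smul_point_eq_iff _ hv).mp hhω
    set f := algebraMap F E
    have key : ∀ (z : SL2) (c : E), NonScalar z → z ^ p ∈ Subgroup.center SL2 →
        (slExt f z : Matrix (Fin 2) (Fin 2) E) *ᵥ v = c • v → ∀ w, ∃ b : E,
        ((slExt f z : Matrix (Fin 2) (Fin 2) E) - c • 1) *ᵥ w = b • v := by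
      intro z c hz hzp hzv w
      have hc := eig_of_mulVec f hv hzv
      have hc2 := (pow_mem_center_iff f p hz hc).mp hzp
      have hc0 : c ≠ 0 := by rintro rfl; simp [IsEig] at hc
      have htr : Matrix.trace (slExt f z : Matrix (Fin 2) (Fin 2) E) = 2 * c := by
        have e : Matrix.trace (slExt f z : Matrix (Fin 2) (Fin 2) E) =
            f (Matrix.trace (z : Matrix (Fin 2) (Fin 2) F)) := by
          simp [Matrix.trace_fin_two, slExt_apply]
        unfold IsEig at hc
        rw [e]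
        apply mul_right_cancel₀ hc0
        linear_combination (-1) * hc - hc2
      have hNN : (slExt f z : Matrix (Fin 2) (Fin 2) E) *ᵥ
          (((slExt f z : Matrix (Fin 2) (Fin 2) E) - c • 1) *ᵥ w) =
          c • (((slExt f z : Matrix (Fin 2) (Fin 2) E) - c • 1) *ᵥ w) := by
        rw [Matrix.mulVec_mulVec, ← Matrix.smul_mulVec, Matrix.mul_sub, sl2_mul_self, htr,
          mul_smul_comm, mul_one, smul_sub, smul_smul, ← pow_two, hc2, one_smul, two_mul, add_smul]
        congr 1
        abel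
      obtain ⟨b, hb⟩ := eigen_unique f hz hv hzv hNN
      exact ⟨b, hb.symm⟩
    have hxy : x * y = y * x := by
      have hN := key x μ (nonScalar_of_ne_one hx hg1) ((hpow g x hx).mp hgp) hμ
      have hM := key y ν (nonScalar_of_ne_one hy hh1) ((hpow h y hy).mp hhp) hν
      apply Subtype.ext
      ext i j
      apply f.injective
      have hmat : (slExt f x : Matrix (Fin 2) (Fin 2) E) * (slExt f y : Matrix (Fin 2) (Fin 2) E) =
          (slExt f y : Matrix (Fin 2) (Fin 2) E) * (slExt f x : Matrix (Fin 2) (Fin 2) E) := by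
        refine Matrix.ext_of_mulVec_single fun k => ?_
        obtain ⟨a, ha⟩ := hN (Pi.single k 1)
        obtain ⟨b, hb⟩ := hM (Pi.single k 1)
        rw [Matrix.sub_mulVec, Matrix.smul_mulVec, Matrix.one_mulVec, sub_eq_iff_eq_add] at ha hb
        rw [← Matrix.mulVec_mulVec, ← Matrix.mulVec_mulVec, hb, ha, Matrix.mulVec_add,
          Matrix.mulVec_add, Matrix.mulVec_smul, Matrix.mulVec_smul, Matrix.mulVec_smul,
          Matrix.mulVec_smul, hμ, hν, ha, hb]
        module
      have := congrFun (congrFun hmat i) j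
      simpa [Matrix.mul_apply, slExt_apply] using this
    show g * h = h * g
    apply Subtype.ext
    rw [Subgroup.coe_mul, Subgroup.coe_mul, ← hx, ← hy, ← QuotientGroup.mk_mul, hxy, QuotientGroup.mk_mul]

/-- The eigenvalue on a common eigenvector. -/
theorem exists_eigChar {E : Type*} [Field E] (f : F →+* E) {v : Fin 2 → E} (hv : v ≠ 0)
    (S : Subgroup SL2) (hS : ∀ x ∈ S, ∃ μ : E, (slExt f x : Matrix (Fin 2) (Fin 2) E) *ᵥ v = μ • v) :
    ∃ χ : S →* E, ∀ x : S, (slExt f (x : SL2) : Matrix (Fin 2) (Fin 2) E) *ᵥ v = χ x • v := by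
  choose c hc using fun x : S => hS x x.2
  refine ⟨⟨⟨c, smul_left_injective E hv ?_⟩, fun a b => smul_left_injective E hv ?_⟩, hc⟩
  · show c 1 • v = (1 : E) • v
    rw [← hc 1, one_smul]
    simp
  · show c (a * b) • v = (c a * c b) • v
    rw [← hc (a * b), Subgroup.coe_mul, map_mul, Matrix.SpecialLinearGroup.coe_mul,
      ← Matrix.mulVec_mulVec, hc b, Matrix.mulVec_smul, hc a, smul_smul, mul_comm]

/-- The point stabiliser: commutators are unipotent, `p'`-subgroups are cyclic. -/
theorem stabilizer_props (E : Type*) [Field E] [Fintype E] (f : F →+* E) (G : Subgroup PSL2)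
    (ω : ℙ E (Fin 2 → E)) :
    letI := actionExt E f G
    (∀ a b : G, a ∈ stabilizer G ω → b ∈ stabilizer G ω → (a * b * a⁻¹ * b⁻¹) ^ p = 1) ∧
      ∀ K : Subgroup G, K ≤ stabilizer G ω → ¬ p ∣ Nat.card K → IsCyclic K := by
  classical
  letI := actionExt E f G
  induction ω using Projectivization.ind with | _ v hv =>
  set T : Subgroup PSL2 := (stabilizer G (Projectivization.mk E v hv)).map G.subtype
  have hT : ∀ x ∈ T.comap (QuotientGroup.mk' _),
      ∃ μ : E, (slExt f x : Matrix (Fin 2) (Fin 2) E) *ᵥ v = μ • v := by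
    rintro x ⟨g, hg, hgx⟩
    refine (smul_point_eq_iff _ hv).mp ?_
    rw [← smul_ext f (g := g) (x := x) hgx.symm]
    exact hg
  obtain ⟨χ, hχ⟩ := exists_eigChar f hv _ hT
  have hone : ∀ x : T.comap (QuotientGroup.mk' _), χ x = 1 →
      ((x : SL2) : PSL2) ^ p = 1 := by
    intro x hx
    by_cases hns : NonScalar (x : SL2)
    · rw [← QuotientGroup.mk_pow, QuotientGroup.eq_one_iff]
      refine (pow_mem_center_iff f p hns (eig_of_mulVec f hv (hχ x))).mpr ?_
      rw [hx, one_pow]
    · obtain ⟨a, ha⟩ : ∃ a : F, ((x : SL2) : Matrix (Fin 2) (Fin 2) F) = a • 1 := by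
        by_contra hcon
        exact hns fun a ha => hcon ⟨a, ha⟩
      rw [(QuotientGroup.eq_one_iff (x : SL2)).mpr ((mem_center_iff_smul _).mpr ⟨a, ha⟩), one_pow]
  have hlift : ∀ a : G, a ∈ stabilizer G (Projectivization.mk E v hv) →
      ∃ x : T.comap (QuotientGroup.mk' _), ((x : SL2) : PSL2) = a := by
    intro a ha
    obtain ⟨x, hx⟩ := QuotientGroup.mk_surjective (a : PSL2)
    exact ⟨⟨x, a, ha, hx.symm⟩, hx⟩
  constructor
  · intro a b ha hb
    obtain ⟨x, hx⟩ := hlift a ha
    obtain ⟨y, hy⟩ := hlift b hb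
    have h1 : χ (x * y * x⁻¹ * y⁻¹) = 1 := by
      have hx' : χ x * χ x⁻¹ = 1 := by rw [← map_mul, mul_inv_cancel, map_one]
      have hy' : χ y * χ y⁻¹ = 1 := by rw [← map_mul, mul_inv_cancel, map_one]
      rw [map_mul, map_mul, map_mul]
      linear_combination χ y * χ y⁻¹ * hx' + hy'
    have := hone _ h1
    simp only [Subgroup.coe_mul, Subgroup.coe_inv, QuotientGroup.mk_mul, QuotientGroup.mk_inv,
      hx, hy] at this
    exact Subtype.ext (by simpa using this)
  · intro K hK hKp
    let S : Subgroup (T.comap (QuotientGroup.mk' _)) :=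
      ((K.map G.subtype).comap (QuotientGroup.mk' _)).subgroupOf _
    let ψ : S →* E := χ.comp S.subtype
    have hψ : Function.Injective ψ := by
      rw [injective_iff_map_eq_one]
      rintro ⟨x, hxS⟩ hx
      obtain ⟨k, hk, hkx⟩ := hxS
      have h1 := hone x hx
      have hkx' : (k : PSL2) = ((x : SL2) : PSL2) := hkx
      have h2 : k ^ p = 1 := Subtype.ext (by rw [SubmonoidClass.coe_pow, hkx', h1]; rfl)
      have hk1 : k = 1 := by
        by_contra h
        exact hKp (by
          rw [← orderOf_eq_prime h2 h]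
          exact Subgroup.orderOf_dvd_natCard K hk)
      rw [hk1, Subgroup.coe_one] at hkx'
      obtain ⟨a, ha⟩ := (mem_center_iff_smul _).mp ((QuotientGroup.eq_one_iff _).mp hkx'.symm)
      have h3 := hχ x
      have e : (slExt f (x : SL2) : Matrix (Fin 2) (Fin 2) E) = f a • 1 := by
        ext i j
        rw [slExt_apply, ha]
        fin_cases i <;> fin_cases j <;> simp
      rw [show χ x = 1 from hx, e, Matrix.smul_mulVec, Matrix.one_mulVec] at h3
      have ha1 : a = 1 := f.injective (by rw [map_one]; exact smul_left_injective E hv h3)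
      refine Subtype.ext (Subtype.ext (Subtype.ext ?_))
      rw [ha, ha1, one_smul]
      rfl
    haveI : IsCyclic S := isCyclic_of_subgroup_isDomain ψ hψ
    let φ : S →* K :=
      (Subgroup.equivMapOfInjective K G.subtype G.subtype_injective).symm.toMonoidHom.comp
        (((QuotientGroup.mk' _).comp ((Subgroup.subtype _).comp S.subtype)).codRestrict
          (K.map G.subtype) (fun s => s.2))
    refine isCyclic_of_surjective φ ?_
    rintro ⟨g, hg⟩
    obtain ⟨x, hx⟩ := QuotientGroup.mk_surjective (g : PSL2)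
    refine ⟨⟨⟨x, g, hK hg, hx.symm⟩, g, hg, hx.symm⟩, ?_⟩
    apply (Subgroup.equivMapOfInjective K G.subtype G.subtype_injective).injective
    simp only [φ, MonoidHom.comp_apply, MulEquiv.coe_toMonoidHom, MulEquiv.apply_symm_apply]
    exact Subtype.ext hx

/-- **Dickson**: subgroups of order prime to `p`. -/
theorem coprime_cases (G : Subgroup PSL2) (hG : ¬ p ∣ Nat.card G) :
    (∃ C : Subgroup G, IsCyclic C ∧ C.index ≤ 2) ∨
      Nat.card G = 12 ∨ Nat.card G = 24 ∨ Nat.card G = 60 := by
  classical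
  let E := FiniteField.Extension F p 2
  haveI : Fintype E := Fintype.ofFinite E
  letI := actionExt E (algebraMap F E) G
  rcases Nat.lt_or_ge (Nat.card G) 2 with h | h
  · haveI : Subsingleton G := (Nat.card_eq_one_iff_unique.mp (by
      have := Nat.card_pos (α := G); omega)).1
    exact Or.inl ⟨⊤, inferInstance, by simp⟩
  rcases cases_coprime (p := p) (Ω := ℙ E (Fin 2 → E))
    (isDicksonAction E (FiniteField.finrank_extension F p 2) G) hG h with ⟨ω, hω⟩ | h'
  · exact Or.inl ⟨stabilizer G ω, (stabilizer_props (p := p) E _ G ω).2 _ le_rfl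
      (fun hd => hG (hd.trans (Subgroup.card_subgroup_dvd_card _))), hω⟩
  · exact Or.inr h'

/-- **Dickson**: subgroups of order divisible by `p`. -/
theorem dvd_cases (G : Subgroup PSL2) (hG : p ∣ Nat.card G) :
    ((∀ a b : G, (a * b * a⁻¹ * b⁻¹) ^ p = 1) ∧
      (∀ a b : G, a ^ p = 1 → b ^ p = 1 → Commute a b) ∧
      ∀ K : Subgroup G, ¬ p ∣ Nat.card K → IsCyclic K) ∨
    ∃ q k, 0 < k ∧ q = p ^ k ∧ p ^ k ∣ Nat.card G ∧ ¬ p ^ (k + 1) ∣ Nat.card G ∧
      ((q = 2 ∧ ∃ C : Subgroup G, IsCyclic C ∧ C.index = 2) ∨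
       (3 ≤ q ∧ (2 * Nat.card G + q = q ^ 3 ∨ Nat.card G + q = q ^ 3)) ∨
       (q = 3 ∧ Nat.card G = 60)) := by
  classical
  let E := FiniteField.Extension F p 2
  haveI : Fintype E := Fintype.ofFinite E
  letI := actionExt E (algebraMap F E) G
  have hA := isDicksonAction (p := p) E (FiniteField.finrank_extension F p 2) G
  rcases cases_dvd hA hG with ⟨ω, hω⟩ | ⟨q, ⟨k, hk, hq, hk1, hk2⟩, hc⟩
  · have h := stabilizer_props (p := p) E (algebraMap F E) G ω
    exact Or.inl ⟨fun a b => h.1 a b (hω a) (hω b),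
      fun a b ha hb => hA.commute a b ha hb ω (hω a) (hω b),
      fun K hK => h.2 K (fun g _ => hω g) hK⟩
  · refine Or.inr ⟨q, k, hk, hq, hk1, hk2, ?_⟩
    rcases hc with ⟨h2, ω, hω⟩ | h'
    · refine Or.inl ⟨h2, stabilizer G ω, (stabilizer_props (p := p) E _ G ω).2 _ le_rfl ?_, hω⟩
      intro hd
      have hp2 : p = 2 := by
        rw [hq] at h2
        exact ((Nat.prime_dvd_prime_iff_eq Fact.out Nat.prime_two).mp (h2 ▸ dvd_pow_self p hk.ne'))
      apply hk2
      have e : p ^ (k + 1) = 2 * 2 := by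
        calc p ^ (k + 1) = p ^ k * p := pow_succ p k
          _ = 2 * 2 := by rw [← hq, h2]; exact congrArg (2 * ·) hp2
      have hd' : 2 ∣ Nat.card (stabilizer G ω) := (hp2.symm.dvd).trans hd
      rw [e, ← Subgroup.card_mul_index (stabilizer G ω), hω]
      exact Nat.mul_dvd_mul_right hd' 2
    · exact Or.inr h'

end Main

end Cfsg.Agent.Lib.DicksonFull
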