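import Mathlib

/-!
Dickson's orbit counting: a finite group acting so that every non-identity element fixes one or two
points, the elements fixing one point being exactly those of order `p`.
-/

set_option autoImplicit false

namespace Cfsg.Agent.Lib.DicksonFull

open MulAction Finset

section Burnside

variable (G Ω : Type*) [Group G] [Finite G] [MulAction G Ω] [Finite Ω]

/-- Burnside's lemma with the identity removed. -/
theorem burnside' [Fintype G] [DecidableEq G] [Fintype (Quotient (orbitRel G Ω))] :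
    ∑ g ∈ univ.erase (1 : G), Nat.card (fixedBy Ω g) =
      ∑ c : Quotient (orbitRel G Ω), (Nat.card G - Nat.card (orbit G c.out)) := by
  classical
  haveI : Fintype Ω := Fintype.ofFinite Ω
  have hB : ∑ g : G, Nat.card (fixedBy Ω g) =
      Fintype.card (Quotient (orbitRel G Ω)) * Nat.card G := by
    simp_rw [Nat.card_eq_fintype_card]
    exact sum_card_fixedBy_eq_card_orbits_mul_card_group G Ω
  rw [← Finset.add_sum_erase _ _ (mem_univ (1 : G))] at hB
  have h1 : Nat.card (fixedBy Ω (1 : G)) = ∑ c : Quotient (orbitRel G Ω), Nat.card (orbit G c.out) := by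
    rw [← Nat.card_sigma, Nat.card_congr (Equiv.setCongr (fixedBy_one_eq_univ Ω G)),
      Nat.card_congr (Equiv.Set.univ Ω)]
    exact Nat.card_congr (selfEquivSigmaOrbits G Ω)
  have hle : ∀ c : Quotient (orbitRel G Ω), Nat.card (orbit G c.out) ≤ Nat.card G := fun c => by
    rw [Nat.card_congr (orbitEquivQuotientStabilizer G c.out)]
    exact Nat.card_le_card_of_surjective _ Quotient.mk_surjective
  have h2 : ∑ c : Quotient (orbitRel G Ω), (Nat.card G - Nat.card (orbit G c.out)) +
      ∑ c : Quotient (orbitRel G Ω), Nat.card (orbit G c.out) =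
      Fintype.card (Quotient (orbitRel G Ω)) * Nat.card G := by
    rw [← Finset.sum_add_distrib, Finset.sum_congr rfl fun c _ => Nat.sub_add_cancel (hle c),
      Finset.sum_const, Finset.card_univ, smul_eq_mul]
  omega

variable {G Ω}

theorem card_orbit_mul (ω : Ω) : Nat.card (orbit G ω) * Nat.card (stabilizer G ω) = Nat.card G := by
  rw [Nat.card_congr (orbitEquivQuotientStabilizer G ω)]
  exact (Subgroup.card_eq_card_quotient_mul_card_subgroup _).symm

theorem two_mul_orbit_le {ω : Ω} (h : Nat.card (orbit G ω) ≠ Nat.card G) :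
    2 * Nat.card (orbit G ω) ≤ Nat.card G := by
  have h1 := card_orbit_mul (G := G) ω
  rcases Nat.lt_or_ge (Nat.card (stabilizer G ω)) 2 with h2 | h2
  · have : Nat.card (stabilizer G ω) = 1 := by
      have := Nat.card_pos (α := stabilizer G ω)
      omega
    rw [this, mul_one] at h1
    exact absurd h1 h
  · have := Nat.mul_le_mul_left (Nat.card (orbit G ω)) h2
    omega

end Burnside

/-- Solutions of `1/a + 1/b + 1/c = 1 + 2/N`, written with orbit lengths. -/
theorem arith_three {N a b c : ℕ} (ha : a ∣ N) (hb : b ∣ N) (hc : c ∣ N) (hab : b ≤ a) (hbc : c ≤ b)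
    (ha2 : 2 * a ≤ N) (hsum : a + b + c = N + 2) :
    c ≤ 2 ∨ N = 12 ∨ N = 24 ∨ N = 60 := by
  obtain ⟨x, hx⟩ := ha
  obtain ⟨y, hy⟩ := hb
  obtain ⟨z, hz⟩ := hc
  have hx2 : 2 ≤ x := by
    by_contra h
    have := Nat.mul_le_mul_left a (show x ≤ 1 by omega)
    omega
  have hxy : x ≤ y := by
    by_contra h
    have h1 := Nat.mul_le_mul_left b (show y + 1 ≤ x by omega)
    have h2 := Nat.mul_le_mul_right x hab
    rcases Nat.eq_zero_or_pos b with h0 | h0
    · subst h0; simp at hy; omega
    · rw [Nat.mul_add, Nat.mul_one, ← hy] at h1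
      rw [← hx] at h2
      omega
  have hx3 : x = 2 := by
    by_contra h
    have := Nat.mul_le_mul_left a (show 3 ≤ x by omega)
    omega
  subst hx3
  have hy3 : y ≤ 3 := by
    by_contra h
    have := Nat.mul_le_mul_left b (show 4 ≤ y by omega)
    omega
  interval_cases y
  · omega
  · have hz5 : z ≤ 5 := by
      by_contra h
      have := Nat.mul_le_mul_left c (show 6 ≤ z by omega)
      omega
    interval_cases z <;> omega

/-- The numerical solutions of the class equation. -/
theorem arith_main {q n d e : ℕ} (hq : 3 ≤ q) (hn : q + 1 ≤ n) (hnq : n % q = 1) (hd : 1 ≤ d)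
    (hdq : d + 1 ≤ q) (h : n * (q * d) = n * (e * (q - 2)) + 2 * e) :
    (n = q + 1 ∧ (2 * d + 1 = q ∨ d + 1 = q)) ∨ (q = 3 ∧ n = 10 ∧ d = 2) := by
  have he : 0 < e := by
    rcases Nat.eq_zero_or_pos e with rfl | he
    · have := Nat.mul_pos (show 0 < n by omega) (Nat.mul_pos (show 0 < q by omega) hd)
      simp at h
      omega
    · exact he
  have hlt : e * (q - 2) < q * d := by
    by_contra hle
    have := Nat.mul_le_mul_left n (not_lt.mp hle)
    omega
  obtain ⟨m, hm⟩ : ∃ m, q * d = e * (q - 2) + (m + 1) :=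
    ⟨q * d - e * (q - 2) - 1, by omega⟩
  have hnm : n * (m + 1) = 2 * e := by rw [hm, Nat.mul_add] at h; omega
  rcases Nat.lt_or_ge q 4 with hq4 | hq4
  · obtain rfl : q = 3 := by omega
    have h3 : n ≤ 2 * e := hnm ▸ Nat.le_mul_of_pos_right n (by omega)
    simp at hm
    have : d ≤ 2 := by omega
    interval_cases d
    · have hn4 : n = 4 := by omega
      subst hn4
      omega
    · have : n ≤ 10 := by omega
      interval_cases n <;> omega
  · have he1 : e ≤ q + 1 := by
      by_contra hlt'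
      have h1 := Nat.mul_le_mul_right (q - 2) (show q + 2 ≤ e by omega)
      have h2 := Nat.mul_le_mul_left q (show d ≤ q - 1 by omega)
      obtain ⟨u, rfl⟩ : ∃ u, q = u + 4 := ⟨q - 4, by omega⟩
      simp only [show u + 4 - 2 = u + 2 from rfl, show u + 4 - 1 = u + 3 from rfl] at h1 h2 hm
      nlinarith
    have hm1 : m ≤ 1 := by
      by_contra hlt'
      have := Nat.mul_le_mul hn (show 3 ≤ m + 1 by omega)
      omega
    obtain ⟨u, rfl⟩ : ∃ u, q = u + 4 := ⟨q - 4, by omega⟩
    simp only [show u + 4 - 2 = u + 2 from rfl] at hm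
    interval_cases m
    · have hk : n = u + 4 + 1 := by
        have h1 := Nat.mod_add_div n (u + 4)
        rw [hnq] at h1
        rcases Nat.lt_or_ge (n / (u + 4)) 2 with hd2 | hd2
        · have hpos : 1 ≤ n / (u + 4) := (Nat.one_le_div_iff (by omega)).mpr (by omega)
          rw [show n / (u + 4) = 1 by omega, mul_one] at h1
          omega
        · rcases Nat.lt_or_ge (n / (u + 4)) 3 with hd3 | hd3
          · rw [show n / (u + 4) = 2 by omega] at h1
            omega
          · have := Nat.mul_le_mul_left (u + 4) hd3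
            omega
      refine Or.inl ⟨hk, Or.inl ?_⟩
      have h2e : 2 * e = u + 5 := by omega
      have h2d : 2 * ((u + 4) * d) = (u + 5) * (u + 2) + 2 := by
        rw [hm, ← h2e]; ring
      apply Nat.eq_of_mul_eq_mul_left (show 0 < u + 4 by omega)
      nlinarith
    · have he' : e = u + 5 := by omega
      subst he'
      refine Or.inl ⟨by omega, Or.inr ?_⟩
      apply Nat.eq_of_mul_eq_mul_left (show 0 < u + 4 by omega)
      nlinarith

section Main

variable {G Ω : Type*} [Group G] [Finite G] [MulAction G Ω] [Finite Ω]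

/-- The hypotheses on the action. -/
structure IsDicksonAction (p : ℕ) (G Ω : Type*) [Group G] [MulAction G Ω] : Prop where
  card_fixed : ∀ g : G, g ≠ 1 → Nat.card (fixedBy Ω g) = 1 ∨ Nat.card (fixedBy Ω g) = 2
  pow_eq_one : ∀ g : G, g ≠ 1 → (Nat.card (fixedBy Ω g) = 1 ↔ g ^ p = 1)
  commute : ∀ g h : G, g ^ p = 1 → h ^ p = 1 → ∀ ω : Ω, g • ω = ω → h • ω = ω → Commute g h

/-- No element of order `p`. -/
theorem cases_coprime {p : ℕ} [Fact p.Prime] (hA : IsDicksonAction p G Ω)
    (hp : ¬ p ∣ Nat.card G) (hG : 1 < Nat.card G) :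
    (∃ ω : Ω, (stabilizer G ω).index ≤ 2) ∨
      Nat.card G = 12 ∨ Nat.card G = 24 ∨ Nat.card G = 60 := by
  classical
  haveI : Fintype G := Fintype.ofFinite G
  haveI : Fintype (Quotient (orbitRel G Ω)) := Fintype.ofFinite _
  have h2 : ∀ g ∈ univ.erase (1 : G), Nat.card (fixedBy Ω g) = 2 := fun g hg => by
    have hg1 : g ≠ 1 := (Finset.mem_erase.mp hg).1
    refine (hA.card_fixed g hg1).resolve_left fun h => hp ?_
    rw [← orderOf_eq_prime ((hA.pow_eq_one g hg1).mp h) hg1]
    exact orderOf_dvd_natCard g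
  have hB := burnside' G Ω
  rw [Finset.sum_congr rfl h2, Finset.sum_const, Finset.card_erase_of_mem (mem_univ _),
    Finset.card_univ, ← Nat.card_eq_fintype_card, smul_eq_mul] at hB
  set f : Quotient (orbitRel G Ω) → ℕ := fun c => Nat.card (orbit G c.out) with hf
  set S := univ.filter fun c => f c ≠ Nat.card G with hS
  have hB' : (Nat.card G - 1) * 2 = ∑ c ∈ S, (Nat.card G - f c) := by
    rw [hB]
    refine (Finset.sum_subset (Finset.subset_univ _) fun c _ hc => ?_).symm
    simp [hS, f] at hc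
    simp [f, hc]
  have hpos : ∀ c, 0 < f c := fun c => by
    haveI : Nonempty (orbit G c.out) := ⟨⟨c.out, mem_orbit_self _⟩⟩
    exact Nat.card_pos
  have hhalf : ∀ c ∈ S, 2 * f c ≤ Nat.card G := fun c hc =>
    two_mul_orbit_le (Finset.mem_filter.mp hc).2
  have hdvd : ∀ c, f c ∣ Nat.card G := fun c => Dvd.intro _ (card_orbit_mul c.out)
  have hidx : ∀ c, (stabilizer G (c.out : Ω)).index = f c := fun c => by
    rw [index_stabilizer]
    rfl
  have hbound : ∑ c ∈ S, (Nat.card G - f c) ≥ S.card * ((Nat.card G + 1) / 2) := by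
    rw [ge_iff_le, ← smul_eq_mul, ← Finset.sum_const]
    refine Finset.sum_le_sum fun c hc => ?_
    have := hhalf c hc
    omega
  have hcard : S.card ≤ 3 := by
    by_contra h
    have := Nat.mul_le_mul_right ((Nat.card G + 1) / 2) (show 4 ≤ S.card by omega)
    omega
  rcases S.card.eq_zero_or_pos with h0 | h0
  · rw [Finset.card_eq_zero.mp h0, Finset.sum_empty] at hB'
    omega
  rcases (show S.card = 1 ∨ S.card = 2 ∨ S.card = 3 by omega) with h | h | h
  · obtain ⟨a, ha⟩ := Finset.card_eq_one.mp h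
    rw [ha, Finset.sum_singleton] at hB'
    have := hhalf a (by simp [ha])
    have := hpos a
    omega
  · obtain ⟨a, b, -, ha⟩ := Finset.card_eq_two.mp h
    have hab : ∀ c ∈ ({a, b} : Finset _), 2 * f c ≤ Nat.card G := ha ▸ hhalf
    have h1 := hab a (by simp)
    have h2 := hab b (by simp)
    rw [ha, Finset.sum_pair (by rintro rfl; simp [ha] at h)] at hB'
    exact Or.inl ⟨a.out, by rw [hidx]; have := hpos a; have := hpos b; omega⟩
  · obtain ⟨a, b, c, hab, hac, hbc, ha⟩ := Finset.card_eq_three.mp h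
    have hh : ∀ x ∈ ({a, b, c} : Finset _), 2 * f x ≤ Nat.card G := ha ▸ hhalf
    have h1 := hh a (by simp)
    have h2 := hh b (by simp)
    have h3 := hh c (by simp)
    rw [ha, Finset.sum_insert (by simp [hab, hac]), Finset.sum_pair hbc] at hB'
    have hsum : f a + f b + f c = Nat.card G + 2 := by omega
    have key : ∀ x y z, f y ≤ f x → f z ≤ f y → f x + f y + f z = Nat.card G + 2 →
        2 * f x ≤ Nat.card G → _ := fun x y z hxy hyz hs hx =>
      (arith_three (hdvd x) (hdvd y) (hdvd z) hxy hyz hx hs).imp_left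
        fun h => (⟨z.out, by rw [hidx]; exact h⟩ : ∃ ω : Ω, (stabilizer G ω).index ≤ 2)
    rcases Nat.le_total (f b) (f a) with e1 | e1 <;> rcases Nat.le_total (f c) (f b) with e2 | e2 <;>
      rcases Nat.le_total (f c) (f a) with e3 | e3
    · exact key a b c e1 e2 hsum h1
    · exact key a b c e1 e2 hsum h1
    · exact key a c b e3 e2 (by omega) h1
    · exact key c a b e3 e1 (by omega) h3
    · exact key b a c e1 e3 (by omega) h2
    · exact key b c a e2 e3 (by omega) h2
    · exact key c b a e2 e1 (by omega) h3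
    · exact key c b a e2 e1 (by omega) h3

variable {p : ℕ} [hpp : Fact p.Prime]

/-- With elements of order `p`: either a fixed point, or one of the numerical solutions. -/
theorem cases_dvd (hA : IsDicksonAction p G Ω) (hp : p ∣ Nat.card G) :
    (∃ ω : Ω, ∀ g : G, g • ω = ω) ∨
      ∃ q, (∃ k, 0 < k ∧ q = p ^ k ∧ p ^ k ∣ Nat.card G ∧ ¬ p ^ (k + 1) ∣ Nat.card G) ∧
        ((q = 2 ∧ ∃ ω : Ω, (stabilizer G ω).index = 2) ∨
         (3 ≤ q ∧ (2 * Nat.card G + q = q ^ 3 ∨ Nat.card G + q = q ^ 3)) ∨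
         (q = 3 ∧ Nat.card G = 60)) := by
  classical
  haveI : Fintype G := Fintype.ofFinite G
  haveI : Fintype Ω := Fintype.ofFinite Ω
  haveI : Fintype (Quotient (orbitRel G Ω)) := Fintype.ofFinite _
  -- one fixed point for every non-trivial `p`-element
  have hone : ∀ x : G, ∀ k, x ^ p ^ k = 1 → x ≠ 1 → Nat.card (fixedBy Ω x) = 1 := by
    intro x k hk hx
    refine (hA.card_fixed x hx).resolve_right fun h2 => ?_
    obtain ⟨j, -, hord⟩ := (Nat.dvd_prime_pow hpp.out).mp (orderOf_dvd_of_pow_eq_one hk)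
    rcases Nat.eq_zero_or_pos j with rfl | hj
    · exact hx (orderOf_eq_one_iff.mp (by simpa using hord))
    have hy1 : x ^ p ^ (j - 1) ≠ 1 := fun h => by
      have h' := orderOf_dvd_of_pow_eq_one h
      rw [hord, Nat.pow_dvd_pow_iff_le_right hpp.out.one_lt] at h'
      omega
    have hyp : (x ^ p ^ (j - 1)) ^ p = 1 := by
      rw [← pow_mul, ← pow_succ, Nat.sub_add_cancel hj, ← hord, pow_orderOf_eq_one]
    have hle : Nat.card (fixedBy Ω x) ≤ Nat.card (fixedBy Ω (x ^ p ^ (j - 1))) :=
      Nat.card_mono (Set.toFinite _) (fun ω hω => by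
        show x ^ p ^ (j - 1) • ω = ω
        have : ∀ i : ℕ, x ^ i • ω = ω := fun i => by
          induction i with
          | zero => rw [pow_zero, one_smul]
          | succ i ih => rw [pow_succ, mul_smul, show x • ω = ω from hω, ih]
        exact this _)
    rw [h2, (hA.pow_eq_one _ hy1).mpr hyp] at hle
    omega
  have huniq : ∀ x : G, Nat.card (fixedBy Ω x) = 1 → ∀ a b : Ω, x • a = a → x • b = b → a = b := by
    intro x hx a b ha hb
    haveI := (Nat.card_eq_one_iff_unique.mp hx).1
    exact congrArg Subtype.val (Subsingleton.elim (⟨a, ha⟩ : fixedBy Ω x) ⟨b, hb⟩)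
  obtain ⟨P⟩ := (inferInstance : Nonempty (Sylow p G))
  haveI : Nontrivial (P : Subgroup G) := by
    refine Finite.one_lt_card_iff_nontrivial.mp ?_
    rw [P.card_eq_multiplicity]
    exact Nat.one_lt_pow (hpp.out.factorization_pos_of_dvd Nat.card_pos.ne' hp).ne' hpp.out.one_lt
  haveI := P.2.center_nontrivial
  obtain ⟨⟨⟨z, hzP⟩, hzc⟩, hz1⟩ := exists_ne (1 : Subgroup.center (P : Subgroup G))
  have hz : z ≠ 1 := fun h => hz1 (Subtype.ext (Subtype.ext h))
  obtain ⟨kz, hkz⟩ := P.2 ⟨z, hzP⟩
  have hzfix := hone z kz (congrArg Subtype.val hkz) hz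
  obtain ⟨⟨ω₀, hω₀⟩⟩ : Nonempty (fixedBy Ω z) := (Nat.card_eq_one_iff_unique.mp hzfix).2
  have hPfix : ∀ x ∈ P, x • ω₀ = ω₀ := by
    intro x hx
    refine huniq z hzfix _ _ ?_ hω₀
    have hc : x * z = z * x := congrArg Subtype.val (Subgroup.mem_center_iff.mp hzc ⟨x, hx⟩)
    rw [← mul_smul, ← hc, mul_smul, show z • ω₀ = ω₀ from hω₀]
  have hPp : ∀ x ∈ P, x ^ p = 1 := by
    intro x hx
    by_cases hx1 : x = 1
    · rw [hx1, one_pow]
    obtain ⟨k, hk⟩ := P.2 ⟨x, hx⟩
    exact (hA.pow_eq_one x hx1).mp (hone x k (congrArg Subtype.val hk) hx1)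
  -- the elements of exponent `p` in the stabiliser form `P`
  let U : Subgroup G :=
    { carrier := {x | x ^ p = 1 ∧ x • ω₀ = ω₀}
      one_mem' := ⟨one_pow _, one_smul _ _⟩
      mul_mem' := fun {a b} ha hb => ⟨by
        rw [(hA.commute a b ha.1 hb.1 ω₀ ha.2 hb.2).mul_pow, ha.1, hb.1, one_mul],
        by rw [mul_smul, hb.2, ha.2]⟩
      inv_mem' := fun {a} ha => ⟨by rw [inv_pow, ha.1, inv_one],
        by rw [inv_smul_eq_iff, ha.2]⟩ }
  have hU : U = P := P.3 (fun x => ⟨1, Subtype.ext (by
    rw [pow_one]; exact x.2.1)⟩) fun x hx => ⟨hPp x hx, hPfix x hx⟩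
  have hmemP : ∀ x : G, x ^ p = 1 → x • ω₀ = ω₀ → x ∈ P := fun x h1 h2 => by
    show x ∈ (P : Subgroup G)
    rw [← hU]; exact ⟨h1, h2⟩
  by_cases hfixall : ∀ g : G, g • ω₀ = ω₀
  · exact Or.inl ⟨ω₀, hfixall⟩
  obtain ⟨k, hk1, hk2⟩ : ∃ k, Nat.card (P : Subgroup G) = p ^ k ∧ 0 < k :=
    ⟨_, P.card_eq_multiplicity, hpp.out.factorization_pos_of_dvd Nat.card_pos.ne' hp⟩
  refine Or.inr ⟨p ^ k, ⟨k, hk2, rfl, hk1 ▸ (P : Subgroup G).card_subgroup_dvd_card, fun hd => ?_⟩, ?_⟩
  · rw [hpp.out.pow_dvd_iff_le_factorization Nat.card_pos.ne'] at hd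
    have := Nat.pow_right_injective hpp.out.two_le (hk1.symm.trans P.card_eq_multiplicity)
    omega
  set q := p ^ k with hq
  set n := Nat.card (orbit G ω₀) with hn
  set d := ((P : Subgroup G).subgroupOf (stabilizer G ω₀)).index with hd
  have hqd : Nat.card (stabilizer G ω₀) = q * d := by
    rw [hd, ← hk1, ← Nat.card_congr (Subgroup.subgroupOfEquivOfLe
      (show (P : Subgroup G) ≤ stabilizer G ω₀ from hPfix)).toEquiv, Subgroup.card_mul_index]
  have hG : Nat.card G = n * (q * d) := by rw [← hqd, hn, card_orbit_mul]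
  have hq2 : 2 ≤ q := hpp.out.two_le.trans (Nat.le_self_pow hk2.ne' p)
  -- `P` moves every other point without fixed points
  have hfree : ∀ ω : Ω, ω ≠ ω₀ → ∀ x ∈ P, x • ω = ω → x = 1 := by
    intro ω hω x hx hxω
    by_contra hx1
    exact hω (huniq x ((hA.pow_eq_one x hx1).mpr (hPp x hx)) _ _ hxω (hPfix x hx))
  -- orbit length
  have hnq : n % q = 1 ∧ q + 1 ≤ n := by
    haveI : Fintype (orbit G ω₀) := Fintype.ofFinite _
    letI : MulAction (P : Subgroup G) (orbit G ω₀) := inferInstance
    have hfp : fixedPoints (P : Subgroup G) (orbit G ω₀) = {⟨ω₀, mem_orbit_self _⟩} := by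
      ext ⟨ω, hω⟩
      simp only [mem_fixedPoints, Set.mem_singleton_iff]
      constructor
      · intro h
        refine Subtype.ext (huniq z hzfix _ _ ?_ hω₀)
        exact congrArg Subtype.val (h ⟨z, hzP⟩)
      · intro h x
        cases h
        exact Subtype.ext (hPfix x.1 x.2)
    have key : ∀ ω : orbit G ω₀, ω ≠ ⟨ω₀, mem_orbit_self _⟩ →
        Nat.card (orbit (P : Subgroup G) ω) = q := by
      intro ω hω
      have h1 := card_orbit_mul (G := (P : Subgroup G)) ω
      have hst : stabilizer (P : Subgroup G) ω = ⊥ := by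
        rw [Subgroup.eq_bot_iff_forall]
        intro x hx
        exact Subtype.ext (hfree ω.1 (fun h => hω (Subtype.ext h)) x.1 x.2
          (congrArg Subtype.val (mem_stabilizer_iff.mp hx)))
      rw [hst, Subgroup.card_bot, mul_one, hk1] at h1
      exact h1
    haveI : Fintype (Quotient (orbitRel (P : Subgroup G) (orbit G ω₀))) := Fintype.ofFinite _
    set c₀ : Quotient (orbitRel (P : Subgroup G) (orbit G ω₀)) := ⟦⟨ω₀, mem_orbit_self _⟩⟧
    have hsum : n = 1 + (Fintype.card (Quotient (orbitRel (P : Subgroup G) (orbit G ω₀))) - 1) * q := by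
      rw [hn, Nat.card_congr (selfEquivSigmaOrbits (P : Subgroup G) (orbit G ω₀)), Nat.card_sigma,
        ← Finset.add_sum_erase _ _ (mem_univ c₀)]
      congr 1
      · have ho : c₀.out = ⟨ω₀, mem_orbit_self _⟩ := by
          have h1 : c₀.out ∈ orbit (P : Subgroup G) (⟨ω₀, mem_orbit_self _⟩ : orbit G ω₀) :=
            Quotient.exact (Quotient.out_eq c₀)
          obtain ⟨x, hx⟩ := h1
          rw [← hx]
          exact Subtype.ext (hPfix x.1 x.2)
        rw [Nat.card_eq_one_iff_unique]
        refine ⟨⟨?_⟩, ⟨⟨c₀.out, mem_orbit_self _⟩⟩⟩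
        rintro ⟨a, x, rfl⟩ ⟨b, y, rfl⟩
        refine Subtype.ext ?_
        show x • c₀.out = y • c₀.out
        rw [ho]
        exact Subtype.ext ((hPfix x.1 x.2).trans (hPfix y.1 y.2).symm)
      · rw [Finset.sum_congr rfl fun c hc => key c.out fun h =>
            (Finset.mem_erase.mp hc).1 ((Quotient.out_eq c).symm.trans (congrArg (Quotient.mk _) h)),
          Finset.sum_const,
          Finset.card_erase_of_mem (mem_univ _), Finset.card_univ, smul_eq_mul]
    have hne : n ≠ 1 := by
      intro h1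
      refine hfixall fun g => ?_
      haveI := (Nat.card_eq_one_iff_unique.mp (hn ▸ h1)).1
      exact congrArg Subtype.val (Subsingleton.elim (⟨g • ω₀, mem_orbit _ g⟩ : orbit G ω₀)
        ⟨ω₀, mem_orbit_self _⟩)
    refine ⟨by rw [hsum, Nat.add_mul_mod_self_right, Nat.one_mod_eq_one.mpr (by omega)], ?_⟩
    rcases Nat.eq_zero_or_pos
      (Fintype.card (Quotient (orbitRel (P : Subgroup G) (orbit G ω₀))) - 1) with h0 | h0
    · rw [h0, zero_mul] at hsum; omega
    · have := Nat.le_mul_of_pos_left q h0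
      omega
  -- the centraliser of a non-trivial element of `P` in the stabiliser is `P`
  have hdq : d + 1 ≤ q := by
    let A := {x : G // x ∈ P ∧ x ≠ 1}
    haveI : Fintype A := Fintype.ofFinite A
    let u₀ : A := ⟨z, hzP, hz⟩
    let conjA : stabilizer G ω₀ → A := fun g => ⟨(g : G) * z * (g : G)⁻¹,
      hmemP _ (by rw [conj_pow, hPp z hzP, mul_one, mul_inv_cancel])
        (by rw [mul_smul, mul_smul, (inv_mem g.2 : (g : G)⁻¹ • ω₀ = ω₀),
              show z • ω₀ = ω₀ from hω₀, g.2]),
      fun h => hz (by simpa [mul_inv_eq_one] using h)⟩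
    have hfac : ∀ g h : stabilizer G ω₀, conjA g = conjA h →
        g⁻¹ * h ∈ (P : Subgroup G).subgroupOf (stabilizer G ω₀) := by
      intro g h hgh
      set t := g⁻¹ * h with ht
      have hgh' : (g : G) * z * (g : G)⁻¹ = (h : G) * z * (h : G)⁻¹ := congrArg Subtype.val hgh
      have hc : (t : G) * z = z * (t : G) := by
        simp only [ht, Subgroup.coe_mul, Subgroup.coe_inv]
        calc (g : G)⁻¹ * h * z = (g : G)⁻¹ * ((h : G) * z * (h : G)⁻¹) * h := by group
          _ = _ := by rw [← hgh']; group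
      show (t : G) ∈ P
      by_cases ht1 : (t : G) = 1
      · rw [ht1]; exact one_mem _
      rcases hA.card_fixed _ ht1 with h1 | h1
      · exact hmemP _ ((hA.pow_eq_one _ ht1).mp h1) t.2
      · exfalso
        obtain ⟨⟨a, ha⟩, hane⟩ : ∃ a : fixedBy Ω (t : G), a ≠ ⟨ω₀, t.2⟩ := by
          haveI : Nontrivial (fixedBy Ω (t : G)) :=
            Finite.one_lt_card_iff_nontrivial.mp (by rw [h1]; omega)
          exact exists_ne _
        have hza : (t : G) • (z • a) = z • a := by rw [← mul_smul, hc, mul_smul, ha]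
        have h3 : z • a = a := by
          by_contra hne
          have h3 : ({⟨ω₀, t.2⟩, ⟨a, ha⟩, ⟨z • a, hza⟩} : Finset (fixedBy Ω (t : G))).card = 3 := by
            rw [Finset.card_eq_three]
            refine ⟨_, _, _, hane.symm, fun h => ?_, fun h => hne (congrArg Subtype.val h).symm, rfl⟩
            have h4 : z • a = ω₀ := (congrArg Subtype.val h).symm
            refine hane (Subtype.ext ?_)
            exact smul_left_cancel z (h4.trans (show z • ω₀ = ω₀ from hω₀).symm)
          have := Finset.card_le_univ ({⟨ω₀, t.2⟩, ⟨a, ha⟩, ⟨z • a, hza⟩} : Finset (fixedBy Ω (t : G)))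
          rw [h3, ← Nat.card_eq_fintype_card, h1] at this
          omega
        exact hane (Subtype.ext (huniq z hzfix _ _ h3 hω₀))
    have hinj : Function.Injective (fun c : stabilizer G ω₀ ⧸ (P : Subgroup G).subgroupOf
        (stabilizer G ω₀) => conjA c.out) := fun a b h => by
      rw [← QuotientGroup.out_eq' a, ← QuotientGroup.out_eq' b]
      exact QuotientGroup.eq.mpr (hfac _ _ h)
    have h1 := Nat.card_le_card_of_injective _ hinj
    have h2 : Nat.card A + 1 = q := by
      rw [← hk1]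
      let e : A ≃ {x : (P : Subgroup G) // x ≠ 1} :=
        { toFun := fun x => ⟨⟨x.1, x.2.1⟩, fun h => x.2.2 (congrArg Subtype.val h)⟩
          invFun := fun x => ⟨x.1.1, x.1.2, fun h => x.2 (Subtype.ext h)⟩
          left_inv := fun _ => rfl
          right_inv := fun _ => rfl }
      rw [Nat.card_congr e, Nat.card_eq_fintype_card, Fintype.card_subtype_compl,
        Fintype.card_subtype_eq, Nat.card_eq_fintype_card,
        Nat.sub_add_cancel Fintype.card_pos]
    rw [← Subgroup.index_eq_card, ← hd] at h1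
    omega
  have hdpos : 1 ≤ d := Nat.one_le_iff_ne_zero.mpr Subgroup.index_ne_zero_of_finite
  -- the elements with one fixed point
  have hU1 : ((univ.erase (1 : G)).filter fun g => Nat.card (fixedBy Ω g) = 1).card =
      n * (q - 1) := by
    have hsyl : ∀ g : G, g ^ p = 1 → ∃ h : G, h * g * h⁻¹ ∈ P := by
      intro g hg
      have hpg : IsPGroup p (Subgroup.zpowers g) :=
        IsPGroup.of_card_dvd_pow (n := 1) (by
          rw [Nat.card_zpowers, pow_one]; exact orderOf_dvd_of_pow_eq_one hg)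
      obtain ⟨Q, hQ⟩ := hpg.exists_le_sylow
      obtain ⟨h, hh⟩ := MulAction.exists_smul_eq G Q P
      refine ⟨h, ?_⟩
      rw [← hh]
      show _ ∈ ((h • Q : Sylow p G) : Subgroup G)
      rw [Sylow.coe_subgroup_smul, Subgroup.mem_pointwise_smul_iff_inv_smul_mem]
      simpa [mul_assoc] using hQ (Subgroup.mem_zpowers g)
    let S := {g : G // g ≠ 1 ∧ Nat.card (fixedBy Ω g) = 1}
    let T := Σ ω : orbit G ω₀, {g : G // g ≠ 1 ∧ Nat.card (fixedBy Ω g) = 1 ∧ g • (ω : Ω) = ω}
    have hT : Function.Bijective (fun x : T => (⟨x.2.1, x.2.2.1, x.2.2.2.1⟩ : S)) := by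
      refine ⟨?_, ?_⟩
      · rintro ⟨ω, g, hg⟩ ⟨ω', g', hg'⟩ h
        obtain rfl : g = g' := congrArg Subtype.val h
        obtain rfl : ω = ω' := Subtype.ext (huniq g hg.2.1 _ _ hg.2.2 hg'.2.2)
        rfl
      · rintro ⟨g, hg1, hg⟩
        obtain ⟨h, hh⟩ := hsyl g ((hA.pow_eq_one g hg1).mp hg)
        have hfix : g • (h⁻¹ • ω₀) = h⁻¹ • ω₀ := by
          have := hPfix _ hh
          rw [mul_smul, mul_smul] at this
          exact eq_inv_smul_iff.mpr this
        exact ⟨⟨⟨h⁻¹ • ω₀, mem_orbit _ _⟩, g, hg1, hg, hfix⟩, rfl⟩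
    haveI : Fintype (orbit G ω₀) := Fintype.ofFinite _
    have hfib : ∀ ω : orbit G ω₀,
        Nat.card {g : G // g ≠ 1 ∧ Nat.card (fixedBy Ω g) = 1 ∧ g • (ω : Ω) = ω} = q - 1 := by
      rintro ⟨ω, h, rfl⟩
      let e : {g : G // g ≠ 1 ∧ Nat.card (fixedBy Ω g) = 1 ∧ g • (h • ω₀) = h • ω₀} ≃
          {x : (P : Subgroup G) // x ≠ 1} :=
        (MulAut.conj h⁻¹).toEquiv.subtypeEquiv (q := fun x => x ∈ (P : Subgroup G) ∧ x ≠ 1)
          (fun g => by
            simp only [MulEquiv.toEquiv_eq_coe, EquivLike.coe_coe, MulAut.conj_apply, inv_inv]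
            constructor
            · rintro ⟨hg1, hg, hgf⟩
              refine ⟨hmemP _ (by
                rw [show h⁻¹ * g * h = h⁻¹ * g * h⁻¹⁻¹ by rw [inv_inv], conj_pow,
                  (hA.pow_eq_one g hg1).mp hg]; group) (by
                rw [mul_smul, mul_smul, hgf, inv_smul_smul]), fun h1 => hg1 ?_⟩
              calc g = h * (h⁻¹ * g * h) * h⁻¹ := by group
                _ = 1 := by rw [h1]; group
            · rintro ⟨hm, hm1⟩
              have hg1 : g ≠ 1 := fun h1 => hm1 (by rw [h1]; group)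
              have hgp : g ^ p = 1 := by
                have := hPp _ hm
                rw [show h⁻¹ * g * h = h⁻¹ * g * h⁻¹⁻¹ by rw [inv_inv], conj_pow] at this
                rw [inv_inv] at this
                calc g ^ p = h * (h⁻¹ * g ^ p * h) * h⁻¹ := by group
                  _ = 1 := by rw [this]; group
              refine ⟨hg1, (hA.pow_eq_one g hg1).mpr hgp, ?_⟩
              have := hPfix _ hm
              rw [mul_smul, mul_smul, inv_smul_eq_iff] at this
              exact this) |>.trans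
        { toFun := fun x => ⟨⟨x.1, x.2.1⟩, fun h => x.2.2 (congrArg Subtype.val h)⟩
          invFun := fun x => ⟨x.1.1, x.1.2, fun h => x.2 (Subtype.ext h)⟩
          left_inv := fun _ => rfl
          right_inv := fun _ => rfl }
      rw [Nat.card_congr e, ← hk1, Nat.card_eq_fintype_card, Fintype.card_subtype_compl,
        Fintype.card_subtype_eq, ← Nat.card_eq_fintype_card]
    have h1 : Nat.card S = n * (q - 1) := by
      rw [← Nat.card_eq_of_bijective _ hT, Nat.card_sigma, Finset.sum_congr rfl fun ω _ => hfib ω,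
        Finset.sum_const, Finset.card_univ, smul_eq_mul, hn, Nat.card_eq_fintype_card]
    rw [← h1, Nat.card_eq_fintype_card, Fintype.card_subtype]
    congr 1
    ext g
    simp
  -- Burnside
  have hB := burnside' G Ω
  have hLHS : ∑ g ∈ univ.erase (1 : G), Nat.card (fixedBy Ω g) + n * (q - 1) =
      2 * (Nat.card G - 1) := by
    rw [← hU1, Finset.card_filter, ← Finset.sum_add_distrib,
      Finset.sum_congr rfl (g := fun _ => 2) fun g hg => ?_, Finset.sum_const, smul_eq_mul,
      Finset.card_erase_of_mem (mem_univ _), Finset.card_univ, ← Nat.card_eq_fintype_card, mul_comm]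
    rcases hA.card_fixed g (Finset.mem_erase.mp hg).1 with h | h <;> rw [h] <;> norm_num
  set c₀ : Quotient (orbitRel G Ω) := ⟦ω₀⟧
  have ho : Nat.card (orbit G c₀.out) = n := by
    rw [hn, orbit_eq_iff.mpr (Quotient.exact (Quotient.out_eq c₀) : c₀.out ∈ orbit G ω₀)]
  rw [← Finset.add_sum_erase _ _ (mem_univ c₀), ho] at hB
  set f : Quotient (orbitRel G Ω) → ℕ := fun c => Nat.card (orbit G c.out) with hf
  set S := ((univ : Finset (Quotient (orbitRel G Ω))).erase c₀).filter fun c => f c ≠ Nat.card G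
    with hS
  have hB' : ∑ c ∈ S, (Nat.card G - f c) =
      ∑ c ∈ (univ : Finset (Quotient (orbitRel G Ω))).erase c₀, (Nat.card G - f c) := by
    refine Finset.sum_subset (Finset.filter_subset _ _) fun c hc hc' => ?_
    simp [hS, f] at hc'
    simp [f, hc' (Finset.mem_erase.mp hc).1]
  have hB2 : ∑ c ∈ (univ : Finset (Quotient (orbitRel G Ω))).erase c₀, (Nat.card G - f c) =
      ∑ c ∈ (univ : Finset (Quotient (orbitRel G Ω))).erase c₀, (Nat.card G - Nat.card (orbit G c.out)) := rfl
  have hB3 : Nat.card (orbit G c₀.out) = n := ho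
  have hGn : n * (q * d) = Nat.card G := hG.symm
  have hn0 : n * (q - 1) + n = n * q := by
    conv_rhs => rw [show q = q - 1 + 1 by omega, Nat.mul_add, mul_one]
  have hn1 : n * q ≤ Nat.card G := by rw [hG]; exact Nat.mul_le_mul_left n (Nat.le_mul_of_pos_right q hdpos)
  have hn2 : n * 2 ≤ n * q := Nat.mul_le_mul_left n hq2
  have hhalf : ∀ c ∈ S, 2 * f c ≤ Nat.card G := fun c hc =>
    two_mul_orbit_le (Finset.mem_filter.mp hc).2
  have hpos : ∀ c, 0 < f c := fun c => by
    haveI : Nonempty (orbit G c.out) := ⟨⟨c.out, mem_orbit_self _⟩⟩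
    exact Nat.card_pos
  have hScard : S.card = 1 := by
    have hbound : ∑ c ∈ S, (Nat.card G - f c) ≥ S.card * ((Nat.card G + 1) / 2) := by
      rw [ge_iff_le, ← smul_eq_mul, ← Finset.sum_const]
      refine Finset.sum_le_sum fun c hc => ?_
      have := hhalf c hc
      omega
    rcases Nat.lt_or_ge S.card 1 with h | h
    · rw [Finset.card_eq_zero.mp (show S.card = 0 by omega), Finset.sum_empty] at hB'
      omega
    · by_contra hne
      have := Nat.mul_le_mul_right ((Nat.card G + 1) / 2) (show 2 ≤ S.card by omega)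
      omega
  obtain ⟨c, hcS⟩ := Finset.card_eq_one.mp hScard
  rw [hcS, Finset.sum_singleton] at hB'
  have hc2 := hhalf c (hcS ▸ Finset.mem_singleton_self c)
  have heq : n * (q - 2) + 2 = f c := by
    have hn3 : n * (q - 2) + 2 * n = n * q := by
      conv_rhs => rw [show q = q - 2 + 2 by omega, Nat.mul_add, Nat.mul_comm n 2]
    omega
  obtain ⟨e, he⟩ : ∃ e, e = Nat.card (stabilizer G (c.out : Ω)) := ⟨_, rfl⟩
  have hce : f c * e = Nat.card G := he ▸ card_orbit_mul c.out
  have harith : n * (q * d) = n * (e * (q - 2)) + 2 * e := by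
    rw [hGn, ← hce, ← heq]; ring
  rcases Nat.lt_or_ge q 3 with hq3 | hq3
  · have hq' : q = 2 := by omega
    refine Or.inl ⟨hq', c.out, ?_⟩
    rw [index_stabilizer]
    show f c = 2
    rw [← heq, hq']
    simp
  · rcases arith_main hq3 hnq.2 hnq.1 hdpos hdq harith with ⟨hn', h' | h'⟩ | ⟨h1, h2, h3⟩
    · refine Or.inr (Or.inl ⟨hq3, Or.inl ?_⟩)
      rw [hG, hn', ← h']; ring
    · refine Or.inr (Or.inl ⟨hq3, Or.inr ?_⟩)
      rw [hG, hn', ← h']; ring
    · exact Or.inr (Or.inr ⟨h1, by rw [hG, h1, h2, h3]⟩)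

end Main

end Cfsg.Agent.Lib.DicksonFull
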